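import Groth.Agent.LangWeilWeak.Induction
import Groth.Agent.VarDim.Basic
import Groth.Agent.ZetaLib.ZetaProduct
import Groth.Agent.ZetaLib.EulerProduct
import Groth.Prelude.Def_W4c1zetahwZeta
import Mathlib.NumberTheory.LSeries.Convergence

/-!
# The abscissa of convergence of the zeta function of a scheme over a finite field is at least its dimension
-/

set_option autoImplicit false
set_option linter.style.haveILetI false
set_option backward.isDefEq.respectTransparency false

noncomputable section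

namespace Groth.Agent.LangWeilWeak

open CategoryTheory AlgebraicGeometry Filter Topology
open Groth.Agent.ZetaLib

universe u

/-- A member of an affine cover carries the dimension. -/
theorem exists_open_dim_ge {X : Scheme.{u}} {ι : Type*} (A : ι → CommRingCat.{u}) (j : ∀ i, Spec (A i) ⟶ X)
    [∀ i, IsOpenImmersion (j i)] (hcov : ∀ x : X, ∃ i, x ∈ Set.range (j i)) (r : ℕ)
    (hr : (r : WithBot ℕ∞) ≤ topologicalKrullDim X) : ∃ i, (r : WithBot ℕ∞) ≤ ringKrullDim (A i) := by
  obtain ⟨l, hl⟩ := Order.le_krullDim_iff.mp hr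
  obtain ⟨z, hz⟩ := l.head.isIrreducible.nonempty
  obtain ⟨i, y, hy⟩ := hcov z
  refine ⟨i, ?_⟩
  rw [← PrimeSpectrum.topologicalKrullDim_eq_ringKrullDim]
  have he := (j i).isOpenEmbedding
  have hmem : ∀ a, z ∈ (l a).carrier := fun a => (l.head_le a : l.head ≤ l a) hz
  let Z : Fin (l.length + 1) → TopologicalSpace.IrreducibleCloseds (Spec (A i)) := fun a =>
    ⟨(j i) ⁻¹' (l a).carrier,
      ⟨⟨y, by rw [Set.mem_preimage, hy]; exact hmem a⟩, (l a).isIrreducible.2.preimage he⟩,
      (l a).isClosed.preimage he.continuous⟩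
  have hclos : ∀ a, closure ((l a).carrier ∩ Set.range (j i)) = (l a).carrier := fun a =>
    le_antisymm (closure_minimal Set.inter_subset_left (l a).isClosed)
      (subset_closure_inter_of_isPreirreducible_of_isOpen (l a).isIrreducible.2 he.isOpen_range
        ⟨z, hmem a, ⟨y, hy⟩⟩)
  have hZ : StrictMono Z := by
    intro a b hab
    have hlt : l a < l b := l.strictMono hab
    refine lt_of_le_of_ne (fun w hw => hlt.le hw) fun h => hlt.ne ?_
    have h' : (j i) ⁻¹' (l a).carrier = (j i) ⁻¹' (l b).carrier :=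
      congrArg TopologicalSpace.IrreducibleCloseds.carrier h
    refine TopologicalSpace.IrreducibleCloseds.ext ?_
    show (l a).carrier = (l b).carrier
    rw [← hclos a, ← hclos b, ← Set.image_preimage_eq_inter_range, ← Set.image_preimage_eq_inter_range, h']
  exact Order.le_krullDim_iff.mpr ⟨LTSeries.mk l.length Z hZ, hl⟩

/-- An irreducible affine piece of full dimension. -/
theorem exists_quotient_dim_eq {A : Type u} [CommRing A] (r : ℕ) (hr : ringKrullDim A ≤ r)
    (hr' : (r : WithBot ℕ∞) ≤ ringKrullDim A) :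
    ∃ p : PrimeSpectrum A, ringKrullDim (A ⧸ p.asIdeal) = r := by
  obtain ⟨l, hl⟩ := Order.le_krullDim_iff.mp hr'
  refine ⟨l.head, le_antisymm ((ringKrullDim_quotient_le _).trans hr) ?_⟩
  rw [← VarDim.coheight_eq_ringKrullDim_quotient]
  calc (r : WithBot ℕ∞) = ((l.length : ℕ∞) : WithBot ℕ∞) := by rw [hl]; rfl
    _ ≤ _ := WithBot.coe_le_coe.mpr Order.length_le_coheight_head

/-- Weighted count of embeddings of one finite field into another. -/
theorem card_ringHom_le {κ Fq : Type u} [Field κ] [Finite κ] [Field Fq] [Finite Fq] {M : ℕ}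
    (h : Nat.card Fq ≤ 2 ^ M) : Nat.card (κ →+* Fq) ≤ M := by
  rcases isEmpty_or_nonempty (κ →+* Fq) with he | ⟨⟨σ⟩⟩
  · simp
  obtain ⟨p, hp⟩ := CharP.exists κ
  haveI := hp
  haveI : Fact p.Prime := ⟨(CharP.char_is_prime_or_zero κ p).resolve_right (CharP.char_ne_zero_of_finite κ p)⟩
  haveI : CharP Fq p := (σ.charP_iff_charP p).mp hp
  letI : Algebra (ZMod p) κ := ZMod.algebra κ p
  letI : Algebra (ZMod p) Fq := ZMod.algebra Fq p
  haveI : FiniteDimensional (ZMod p) κ := Module.Finite.of_finite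
  have h1 : Nat.card (κ →+* Fq) ≤ Nat.card (κ →ₐ[ZMod p] Fq) := by
    haveI : Finite (κ →ₐ[ZMod p] Fq) := Finite.of_injective _ DFunLike.coe_injective
    let toA : (κ →+* Fq) → (κ →ₐ[ZMod p] Fq) := fun φ =>
      AlgHom.mk φ (fun c => RingHom.congr_fun
        (Subsingleton.elim (φ.comp (algebraMap (ZMod p) κ)) (algebraMap (ZMod p) Fq)) c)
    exact Nat.card_le_card_of_injective toA fun φ ψ hfg => RingHom.ext fun x => DFunLike.congr_fun hfg x
  have h2 : Nat.card (κ →ₐ[ZMod p] Fq) ≤ Module.finrank (ZMod p) κ := by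
    haveI : Finite (κ →ₐ[ZMod p] Fq) := Finite.of_injective _ DFunLike.coe_injective
    haveI := Fintype.ofFinite (κ →ₐ[ZMod p] Fq)
    rw [Nat.card_eq_fintype_card]
    exact (linearIndependent_toLinearMap (ZMod p) κ Fq).fintype_card_le_finrank.trans
      (Module.finrank_linearMap_self (ZMod p) Fq κ).le
  refine h1.trans (h2.trans ((Nat.pow_le_pow_iff_right (a := 2) one_lt_two).mp ?_))
  refine le_trans ?_ h
  refine le_trans ?_ (Nat.card_le_card_of_injective σ σ.injective)
  rw [Module.natCard_eq_pow_finrank (K := ZMod p) (V := κ), Nat.card_zmod]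
  exact Nat.pow_le_pow_left (Fact.out : p.Prime).two_le _

section OverInt

variable {Y : Scheme.{u}} (fZ : Y ⟶ Spec (CommRingCat.of (ULift.{u} ℤ))) [LocallyOfFiniteType fZ]
  [QuasiCompact fZ]
include fZ

/-- Convergence of the zeta series implies convergence over closed points. -/
theorem summable_ptNorm_of_lseries (r : ℕ) (hr : topologicalKrullDim Y ≤ r) {σ : ℝ}
    (h : LSeriesSummable (Zeta.arithCoeff Y) (σ : ℂ)) :
    Summable fun x : ClosedPt Y => (ptNorm x : ℝ) ^ (-σ) := by
  classical
  have hpos : ∀ x : ClosedPt Y, 0 < ptNorm x := fun x => by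
    have := two_le_ptNorm fZ x; omega
  -- cycles of a given norm are finite
  let z : ClosedPt Y → ℝ := fun x => (ptNorm x : ℝ) ^ (-((r : ℝ) + 1))
  have hz : Summable (mon z) := by
    refine summable_mon z ((2 : ℝ) ^ (-((r : ℝ) + 1))) (Real.rpow_lt_one_of_one_lt_of_neg one_lt_two
      (by have : (0 : ℝ) ≤ r := Nat.cast_nonneg r; linarith)) (fun x => Real.rpow_nonneg (Nat.cast_nonneg _) _) (fun x => ?_) (summable_ptNorm fZ r hr (by linarith))
    exact Real.rpow_le_rpow_of_nonpos two_pos (by exact_mod_cast two_le_ptNorm fZ x)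
      (by have : (0 : ℝ) ≤ r := Nat.cast_nonneg r; linarith)
  have hfib : ∀ n : ℕ, 0 < n → Finite {β : ClosedPt Y →₀ ℕ // mon ptNorm β = n} := fun n hn => by
    have hsub := hz.subtype {β : ClosedPt Y →₀ ℕ | mon ptNorm β = n}
    have hv : ∀ β : {β : ClosedPt Y →₀ ℕ | mon ptNorm β = n}, mon z β.1 = (n : ℝ) ^ (-((r : ℝ) + 1)) := by
      rintro ⟨β, rfl⟩
      show mon z β = _
      simp only [mon, z, Finsupp.prod, Nat.cast_prod, Nat.cast_pow]
      rw [← Real.finset_prod_rpow _ _ fun x _ => by positivity]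
      refine Finset.prod_congr rfl fun x _ => ?_
      rw [← Real.rpow_natCast, ← Real.rpow_mul (Nat.cast_nonneg _), mul_comm,
        Real.rpow_mul (Nat.cast_nonneg _), Real.rpow_natCast]
    rcases finite_or_infinite {β : ClosedPt Y →₀ ℕ // mon ptNorm β = n} with h | h
    · exact h
    · exfalso
      haveI : Infinite (Subtype {β : ClosedPt Y →₀ ℕ | mon ptNorm β = n}) := h
      have h0 := (summable_const_iff ((n : ℝ) ^ (-((r : ℝ) + 1)))).mp ((hsub.congr hv))
      exact (Real.rpow_pos_of_pos (Nat.cast_pos.mpr hn) _).ne' h0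
  have hcount : ∀ n : ℕ, 0 < n → ∀ F : Finset (ClosedPt Y),
      (F.filter fun x => ptNorm x = n).card ≤ Zeta.cycleNormCount Y n := by
    intro n hn F
    haveI := hfib n hn
    rw [Zeta.cycleNormCount, Nat.card_congr (cycleEquiv Y n), ← Nat.card_eq_finsetCard]
    refine Nat.card_le_card_of_injective
      (fun x => ⟨Finsupp.single x.1 1, by
        rw [mon, Finsupp.prod_single_index (h := fun i m => ptNorm i ^ m) (pow_zero _), pow_one]
        exact (Finset.mem_filter.mp x.2).2⟩) ?_
    intro x y hxy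
    exact Subtype.ext (Finsupp.single_left_injective one_ne_zero (congrArg Subtype.val hxy))
  have hnorm : Summable fun n => ‖LSeries.term (Zeta.arithCoeff Y) (σ : ℂ) n‖ := summable_norm_iff.mpr h
  refine summable_of_sum_le (c := ∑' n, ‖LSeries.term (Zeta.arithCoeff Y) (σ : ℂ) n‖)
    (fun x => Real.rpow_nonneg (Nat.cast_nonneg _) _) fun F => ?_
  rw [← Finset.sum_fiberwise_of_maps_to (g := ptNorm) (t := F.image ptNorm) (fun x hx => Finset.mem_image_of_mem _ hx)]
  refine le_trans (Finset.sum_le_sum fun n hn => ?_) (hnorm.sum_le_tsum (F.image ptNorm) fun n _ => norm_nonneg _)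
  have hn0 : 0 < n := by
    obtain ⟨x, -, rfl⟩ := Finset.mem_image.mp hn; exact hpos x
  rw [LSeries.norm_term_eq, if_neg hn0.ne', Finset.sum_congr rfl (g := fun _ => (n : ℝ) ^ (-σ))
    fun x hx => by rw [(Finset.mem_filter.mp hx).2], Finset.sum_const, nsmul_eq_mul, Complex.ofReal_re,
    Zeta.arithCoeff, Complex.norm_natCast, div_eq_mul_inv, ← Real.rpow_neg (Nat.cast_nonneg n)]
  exact mul_le_mul_of_nonneg_right (by exact_mod_cast hcount n hn0 F) (Real.rpow_nonneg (Nat.cast_nonneg _) _)

/-- A nonempty scheme has a zeta series diverging left of `0`. -/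
theorem not_lseriesSummable_neg [Nonempty Y] (r : ℕ) (hr : topologicalKrullDim Y ≤ r) {σ : ℝ} (hσ : σ ≤ 0) :
    ¬ LSeriesSummable (Zeta.arithCoeff Y) (σ : ℂ) := by
  classical
  intro h
  haveI : CompactSpace Y := QuasiCompact.compactSpace_of_compactSpace fZ
  obtain ⟨x, -, hx⟩ := IsClosed.exists_closed_singleton (S := (Set.univ : Set Y)) isClosed_univ Set.univ_nonempty
  have h2 := two_le_ptNorm fZ (⟨x, hx⟩ : ClosedPt Y)
  set n := ptNorm (⟨x, hx⟩ : ClosedPt Y)
  have hpos : ∀ y : ClosedPt Y, 0 < ptNorm y := fun y => by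
    have := two_le_ptNorm fZ y; omega
  have hge : ∀ m : ℕ, 1 ≤ ‖LSeries.term (Zeta.arithCoeff Y) (σ : ℂ) (n ^ m)‖ := by
    intro m
    have hn0 : n ^ m ≠ 0 := pow_ne_zero _ (by omega)
    have hfin : Finite {β : ClosedPt Y →₀ ℕ // mon ptNorm β = n ^ m} := by
      have hL := (lseries_arithCoeff fZ r hr (s := ((r + 1 : ℕ) : ℂ)) (by simp)).1
      have hsum := summable_ptNorm_of_lseries fZ r hr (σ := (r + 1 : ℕ)) (by simpa using hL)
      -- every cycle of norm at most `n ^ m` lives on the finitely many points of norm at most `n ^ m`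
      have hP : {y : ClosedPt Y | ptNorm y ≤ n ^ m}.Finite := by
        refine (eventually_cofinite.mp (hsum.tendsto_cofinite_zero.eventually (eventually_lt_nhds
          (Real.rpow_pos_of_pos (by positivity : (0 : ℝ) < ((n ^ m : ℕ) : ℝ)) (-((r + 1 : ℕ) : ℝ)))))).subset
          fun y hy => ?_
        exact not_lt.mpr (Real.rpow_le_rpow_of_nonpos (by exact_mod_cast hpos y)
          (Nat.cast_le.mpr hy) (neg_nonpos.mpr (Nat.cast_nonneg _)))
      haveI := hP.to_subtype
      refine Finite.of_injective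
        (fun (β : {β : ClosedPt Y →₀ ℕ // mon ptNorm β = n ^ m}) (y : {y : ClosedPt Y | ptNorm y ≤ n ^ m}) =>
          (⟨min (β.1 y.1) (n ^ m), Nat.lt_succ_of_le (min_le_right _ _)⟩ : Fin (n ^ m + 1))) ?_
      intro β β' hββ
      have hle : ∀ (γ : {β : ClosedPt Y →₀ ℕ // mon ptNorm β = n ^ m}) (y : ClosedPt Y), γ.1 y ≠ 0 →
          ptNorm y ≤ n ^ m ∧ γ.1 y ≤ n ^ m := by
        intro γ y hy
        have hd : ptNorm y ^ γ.1 y ∣ mon ptNorm γ.1 :=
          Finset.dvd_prod_of_mem (fun y => ptNorm y ^ γ.1 y) (Finsupp.mem_support_iff.mpr hy)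
        rw [γ.2] at hd
        have hle := Nat.le_of_dvd (by positivity) hd
        exact ⟨(Nat.le_self_pow hy _).trans hle,
          ((Nat.lt_two_pow_self.le.trans (Nat.pow_le_pow_left (two_le_ptNorm fZ y) _))).trans hle⟩
      refine Subtype.ext (Finsupp.ext fun y => ?_)
      by_cases hy : ptNorm y ≤ n ^ m
      · have := congrArg Fin.val (congrFun hββ ⟨y, hy⟩)
        simp only at this
        have e1 : β.1 y ≤ n ^ m := by
          by_cases h0 : β.1 y = 0
          · simp [h0]
          · exact (hle β y h0).2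
        have e2 : β'.1 y ≤ n ^ m := by
          by_cases h0 : β'.1 y = 0
          · simp [h0]
          · exact (hle β' y h0).2
        rwa [min_eq_left e1, min_eq_left e2] at this
      · rw [not_not.mp fun h0 => hy (hle β y h0).1, not_not.mp fun h0 => hy (hle β' y h0).1]
    have h1 : 1 ≤ Zeta.cycleNormCount Y (n ^ m) := by
      rw [Zeta.cycleNormCount, Nat.card_congr (cycleEquiv Y (n ^ m))]
      haveI : Nonempty {β : ClosedPt Y →₀ ℕ // mon ptNorm β = n ^ m} :=
        ⟨⟨Finsupp.single ⟨x, hx⟩ m, by rw [mon, Finsupp.prod_single_index (h := fun i m => ptNorm i ^ m) (pow_zero _)]⟩⟩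
      exact Nat.card_pos
    rw [LSeries.norm_term_eq, if_neg hn0, Complex.ofReal_re, Zeta.arithCoeff, Complex.norm_natCast,
      one_le_div (Real.rpow_pos_of_pos (by exact_mod_cast Nat.pos_of_ne_zero hn0) _)]
    refine le_trans ?_ ((Nat.one_le_cast (α := ℝ)).mpr h1)
    exact Real.rpow_le_one_of_one_le_of_nonpos (by exact_mod_cast Nat.one_le_iff_ne_zero.mpr hn0) hσ
  have ht := (h.tendsto_cofinite_zero.norm.comp (Nat.pow_right_injective h2).tendsto_cofinite)
  rw [norm_zero] at ht
  obtain ⟨m, hm⟩ := (ht.eventually (eventually_lt_nhds one_pos)).exists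
  exact absurd (hge m) (not_le.mpr hm)

end OverInt

variable {k : Type u} [Field k] [Finite k] {Y : Scheme.{u}} (f : Y ⟶ Spec (CommRingCat.of k))
  [LocallyOfFiniteType f] [QuasiCompact f]
include f

/-- A lower bound for points forces divergence over closed points. -/
theorem not_summable_of_goodCount {A : Type u} [CommRing A] [Algebra k A] [Algebra.FiniteType k A]
    (j : Spec (CommRingCat.of A) ⟶ Y) [IsPreimmersion j] {r : ℕ} (hA : GoodCount k A r)
    {s : ℝ} (hs0 : 0 ≤ s) (hs : s < r) :
    ¬ Summable fun x : ClosedPt Y => (ptNorm x : ℝ) ^ (-s) := by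
  classical
  intro hsum
  obtain ⟨e₀, he₀, c, hc, N, hN⟩ := hA
  set S := ∑' x : ClosedPt Y, (ptNorm x : ℝ) ^ (-s) with hS
  set q : ℕ := Nat.card k with hq
  have hq2 : 2 ≤ q := Finite.one_lt_card
  obtain ⟨p, hp⟩ := CharP.exists k
  haveI := hp
  haveI : Fact p.Prime := ⟨(CharP.char_is_prime_or_zero k p).resolve_right (CharP.char_ne_zero_of_finite k p)⟩
  set b : ℝ := ((q : ℝ) ^ e₀) ^ ((r : ℝ) - s) with hb
  have hb1 : 1 < b := Real.one_lt_rpow (one_lt_pow₀ (by exact_mod_cast hq2) he₀.ne') (by linarith)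
  have key : ∀ i : ℕ, max N 1 ≤ i → c * b ^ i ≤ (q * e₀ : ℝ) * i * S := by
    intro i hi
    haveI : NeZero (e₀ * i) := ⟨Nat.mul_ne_zero he₀.ne' (by omega)⟩
    let Fq := ULift.{u} (FiniteField.Extension k p (e₀ * i))
    haveI : Finite (FiniteField.Extension k p (e₀ * i)) := Module.finite_of_finite k
    haveI : Finite Fq := Finite.of_equiv _ Equiv.ulift.symm
    have hfin : Module.finrank k Fq = e₀ * i :=
      (LinearEquiv.finrank_eq ULift.moduleEquiv).trans (FiniteField.finrank_extension k p (e₀ * i))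
    have hcardQ : Nat.card Fq = q ^ (e₀ * i) := by
      rw [Module.natCard_eq_pow_finrank (K := k) (V := Fq), hfin]
    set Q : ℝ := (Nat.card Fq : ℝ) with hQ
    have hQ1 : 1 ≤ Q := by rw [hQ]; exact_mod_cast Nat.card_pos
    -- the finitely many points of norm at most `Q`
    have hpos : ∀ x : ClosedPt Y, 0 < (ptNorm x : ℝ) := fun x => by
      have := two_le_ptNorm (f ≫ toSpecZ k) x
      exact_mod_cast (by omega : 0 < ptNorm x)
    have hfinset : {x : ClosedPt Y | ptNorm x ≤ Nat.card Fq}.Finite := by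
      refine (eventually_cofinite.mp (hsum.tendsto_cofinite_zero.eventually (eventually_lt_nhds
        (Real.rpow_pos_of_pos (lt_of_lt_of_le one_pos hQ1) (-s))))).subset fun x hx => ?_
      exact not_lt.mpr (Real.rpow_le_rpow_of_nonpos (hpos x) (by rw [hQ]; exact_mod_cast hx) (by linarith))
    set U := hfinset.toFinset
    have hU : (U.card : ℝ) * Q ^ (-s) ≤ S := by
      refine le_trans ?_ (hsum.sum_le_tsum U fun x _ => Real.rpow_nonneg (Nat.cast_nonneg _) _)
      rw [← nsmul_eq_mul, ← Finset.sum_const]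
      refine Finset.sum_le_sum fun x hx => Real.rpow_le_rpow_of_nonpos (hpos x) ?_ (by linarith)
      rw [hQ]
      exact_mod_cast (hfinset.mem_toFinset.mp hx : ptNorm x ≤ Nat.card Fq)
    -- each homomorphism gives a closed point with an embedding of its residue field
    haveI : ∀ x : ClosedPt Y, Finite (Y.residueField x.1) := fun x => finite_residueField (f ≫ toSpecZ k) x.2
    haveI : ∀ x : ClosedPt Y, Finite (Y.residueField x.1 →+* Fq) := fun x =>
      Finite.of_injective _ DFunLike.coe_injective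
    haveI : ∀ x : ClosedPt Y, Fintype (Y.residueField x.1 →+* Fq) := fun x => Fintype.ofFinite _
    let T : Finset (Σ x : ClosedPt Y, (Y.residueField x.1 →+* Fq)) :=
      U.sigma fun x => Finset.univ
    let g : (A →ₐ[k] Fq) → Σ x : Y, (Y.residueField x ⟶ CommRingCat.of Fq) := fun ψ =>
      Scheme.SpecToEquivOfField Fq Y (Spec.map (CommRingCat.ofHom ψ.toRingHom) ≫ j)
    have hg : Function.Injective g := fun ψ ψ' h => by
      have h1 := Spec.map_injective ((cancel_mono j).mp ((Scheme.SpecToEquivOfField Fq Y).injective h))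
      exact AlgHom.ext fun a => congrArg (fun φ => φ.hom a) h1
    have hcl : ∀ ψ, IsClosed ({(g ψ).1} : Set Y) ∧ Nat.card (Y.residueField (g ψ).1) ≤ Nat.card Fq := by
      intro ψ
      haveI : Finite (Y.residueField (g ψ).1) := Finite.of_injective _ (g ψ).2.hom.injective
      exact ⟨isClosed_of_finite_residueField f _ inferInstance,
        Nat.card_le_card_of_injective _ (g ψ).2.hom.injective⟩
    let G : (A →ₐ[k] Fq) → T := fun ψ => ⟨⟨⟨(g ψ).1, (hcl ψ).1⟩, (g ψ).2.hom⟩, by
      simp only [T, Finset.mem_sigma, Finset.mem_univ, and_true]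
      exact hfinset.mem_toFinset.mpr (hcl ψ).2⟩
    have hG : Function.Injective G := fun ψ ψ' h => hg (by
      have h' := congrArg (fun t : T => (⟨t.1.1.1, CommRingCat.ofHom t.1.2⟩ : Σ x : Y, (Y.residueField x ⟶ CommRingCat.of Fq))) h
      exact h')
    have hTcard : T.card ≤ (q * (e₀ * i)) * U.card := by
      rw [Finset.card_sigma]
      refine (Finset.sum_le_card_nsmul U _ (q * (e₀ * i)) fun x _ => ?_).trans_eq
        ((smul_eq_mul _ _).trans (Nat.mul_comm _ _))
      rw [Finset.card_univ, ← Nat.card_eq_fintype_card]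
      refine card_ringHom_le ?_
      rw [hcardQ, pow_mul 2]
      exact Nat.pow_le_pow_left Nat.lt_two_pow_self.le _
    have h1 : (Nat.card (A →ₐ[k] Fq) : ℝ) ≤ (q * (e₀ * i) : ℝ) * U.card := by
      have h := (Nat.card_le_card_of_injective G hG).trans ((Nat.card_eq_finsetCard T).le.trans hTcard)
      exact_mod_cast h
    have h2 := (hN i (le_of_max_le_left hi) Fq hfin).trans h1
    rw [← hQ] at h2
    have hQs : (0 : ℝ) < Q ^ (-s) := Real.rpow_pos_of_pos (by linarith) _
    have hbQ : b ^ i = Q ^ r * Q ^ (-s) := by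
      rw [hb, ← Real.rpow_natCast Q r, ← Real.rpow_add (by linarith), ← sub_eq_add_neg, hQ, hcardQ,
        Nat.cast_pow, pow_mul, ← Real.rpow_natCast (((q : ℝ) ^ e₀) ^ ((r : ℝ) - s)) i,
        ← Real.rpow_natCast ((q : ℝ) ^ e₀) i, ← Real.rpow_mul (by positivity), ← Real.rpow_mul (by positivity),
        mul_comm]
    calc c * b ^ i = (c * Q ^ r) * Q ^ (-s) := by rw [hbQ, mul_assoc]
      _ ≤ ((q * (e₀ * i) : ℝ) * U.card) * Q ^ (-s) := mul_le_mul_of_nonneg_right h2 hQs.le
      _ = (q * (e₀ * i) : ℝ) * (U.card * Q ^ (-s)) := by ring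
      _ ≤ (q * (e₀ * i) : ℝ) * S := mul_le_mul_of_nonneg_left hU (by positivity)
      _ = _ := by ring
  -- exponential beats linear
  have hbinv : |b⁻¹| < 1 := by
    rw [abs_of_pos (inv_pos.mpr (by linarith))]; exact inv_lt_one_of_one_lt₀ hb1
  have ht := ((tendsto_self_mul_const_pow_of_abs_lt_one hbinv).const_mul ((q * e₀ : ℝ) * S / c))
  rw [mul_zero] at ht
  obtain ⟨i, hi⟩ := ((ht.eventually (eventually_lt_nhds one_pos)).and (eventually_ge_atTop (max N 1))).exists
  have hbi : 0 < b ^ i := pow_pos (by linarith) i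
  have h3 : (q * e₀ : ℝ) * S / c * (↑i * b⁻¹ ^ i) = ((q * e₀ : ℝ) * i * S) / (c * b ^ i) := by
    rw [inv_pow]; field_simp
  have h4 := key i hi.2
  rw [h3] at hi
  have h5 := (div_lt_one (by positivity)).mp hi.1
  linarith


/-- **The abscissa is at least the dimension.** -/
theorem le_abscissa (r : ℕ) (hr : topologicalKrullDim Y = r) :
    ((r : ℝ) : EReal) ≤ LSeries.abscissaOfAbsConv (Zeta.arithCoeff Y) := by
  haveI : Nonempty Y := by
    by_contra hne
    rw [not_nonempty_iff] at hne
    haveI : IsEmpty (TopologicalSpace.IrreducibleCloseds Y) := ⟨fun Z => IsEmpty.false Z.isIrreducible.nonempty.choose⟩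
    rw [topologicalKrullDim, Order.krullDim_eq_bot] at hr
    exact absurd hr WithBot.bot_ne_coe
  by_contra hlt
  rw [not_le] at hlt
  obtain ⟨y, hy1, hy2⟩ := EReal.lt_iff_exists_real_btwn.mp hlt
  have hyr : y < r := EReal.coe_lt_coe_iff.mp hy2
  have hsum : LSeriesSummable (Zeta.arithCoeff Y) (y : ℂ) :=
    LSeriesSummable_of_abscissaOfAbsConv_lt_re (by simpa using hy1)
  rcases le_or_gt y 0 with hy0 | hy0
  · exact not_lseriesSummable_neg (f ≫ toSpecZ k) r hr.le hy0 hsum
  have hpts := summable_ptNorm_of_lseries (f ≫ toSpecZ k) r hr.le hsum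
  -- an integral affine piece of dimension `r`
  obtain ⟨n, A, j, hj, -, hdim, hcov⟩ := exists_affine_cover (f ≫ toSpecZ k)
  obtain ⟨i, hi⟩ := exists_open_dim_ge A j hcov r hr.ge
  letI : Algebra k (A i) := (Spec.preimage (j i ≫ f)).hom.toAlgebra
  haveI : Algebra.FiniteType k (A i) := by
    show (Spec.preimage (j i ≫ f)).hom.FiniteType
    rw [← HasRingHomProperty.Spec_iff (P := @LocallyOfFiniteType), Spec.map_preimage]
    infer_instance
  obtain ⟨P, hP⟩ := exists_quotient_dim_eq r ((hdim i).trans hr.le) hi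
  let A' := (A i : Type u) ⧸ P.asIdeal
  haveI : IsDomain A' := Ideal.Quotient.isDomain _
  let K := FractionRing A'
  obtain ⟨d, hd1, hd2⟩ := VarDim.exists_dim_eq_trdeg k A'
  have hdr : d = r := by
    have : (d : WithBot ℕ∞) = r := hd1.symm.trans hP
    exact_mod_cast this
  have hKtr : Algebra.trdeg k K = (r : Cardinal) := by
    haveI : Algebra.IsAlgebraic A' K := IsLocalization.isAlgebraic K (nonZeroDivisors A')
    have h := trdeg_add_eq k A' (A := K)
    rw [trdeg_eq_zero (R := A') (A := K), add_zero, hd2, hdr] at h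
    exact h.symm
  let ι : A' →ₐ[k] K := IsScalarTower.toAlgHom k A' K
  have hinj : Function.Injective ι := IsFractionRing.injective A' K
  haveI : Algebra.EssFiniteType A' K := Algebra.EssFiniteType.of_isLocalization K (nonZeroDivisors A')
  haveI : Algebra.EssFiniteType k K := Algebra.EssFiniteType.comp k A' K
  have hgood := goodCount_of_fg r k K hKtr ι.range
    (by rw [← Algebra.map_top]; exact Subalgebra.FG.map _ Algebra.FiniteType.out)
    (top_le_iff.mp fun z _ => by
      obtain ⟨a, b, -, rfl⟩ := IsFractionRing.div_surjective (A := A') z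
      exact div_mem (IntermediateField.subset_adjoin k _ ⟨a, rfl⟩) (IntermediateField.subset_adjoin k _ ⟨b, rfl⟩))
  haveI : Algebra.FiniteType k A' := inferInstance
  haveI : Algebra.FiniteType k ι.range :=
    Algebra.FiniteType.equiv inferInstance (AlgEquiv.ofInjective ι hinj)
  haveI := hj i
  let e : A' ≃ₐ[k] ι.range := AlgEquiv.ofInjective ι hinj
  let π : A i →+* ι.range := e.toRingEquiv.toRingHom.comp (Ideal.Quotient.mk P.asIdeal)
  haveI : IsClosedImmersion (Spec.map (CommRingCat.ofHom π)) :=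
    IsClosedImmersion.spec_of_surjective _ (e.surjective.comp Ideal.Quotient.mk_surjective)
  exact not_summable_of_goodCount f (Spec.map (CommRingCat.ofHom π) ≫ j i) hgood hy0.le hyr hpts

end Groth.Agent.LangWeilWeak
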