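import Groth.Agent.ZetaLib.EulerProduct
import Mathlib.NumberTheory.NumberField.DedekindZeta
import Mathlib.Analysis.PSeries

/-!
# Primes of degree one in a number field are not too sparse
-/

set_option autoImplicit false
set_option linter.style.haveILetI false
set_option backward.isDefEq.respectTransparency false

noncomputable section

namespace Groth.Agent.LangWeilWeak

open Filter Topology NumberField UniqueFactorizationMonoid
open Groth.Agent.ZetaLib

variable (K : Type*) [Field K] [NumberField K]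

/-- The nonzero primes of the ring of integers. -/
abbrev PrimeId : Type _ := {P : Ideal (𝓞 K) // P.IsPrime ∧ P ≠ ⊥}

variable {K}

theorem PrimeId.two_le (P : PrimeId K) : 2 ≤ Ideal.absNorm P.1 := by
  have h0 : Ideal.absNorm P.1 ≠ 0 := fun h => P.2.2 (Ideal.absNorm_eq_zero_iff.mp h)
  have h1 : Ideal.absNorm P.1 ≠ 1 := fun h => P.2.1.ne_top (Ideal.absNorm_eq_one_iff.mp h)
  omega

/-- The rational prime below a prime. -/
theorem PrimeId.exists_prime (P : PrimeId K) :
    ∃ p f : ℕ, p.Prime ∧ 0 < f ∧ Ideal.absNorm P.1 = p ^ f ∧ (p : 𝓞 K) ∈ P.1 := by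
  haveI : P.1.IsMaximal := P.2.1.isMaximal P.2.2
  have hN := P.two_le
  letI : Field (𝓞 K ⧸ P.1) := Ideal.Quotient.field P.1
  have hcard : Nat.card (𝓞 K ⧸ P.1) = Ideal.absNorm P.1 := by
    rw [Ideal.absNorm_apply, Submodule.cardQuot_apply]
  haveI : Finite (𝓞 K ⧸ P.1) := Nat.finite_of_card_ne_zero (by omega)
  obtain ⟨p, hp⟩ := CharP.exists (𝓞 K ⧸ P.1)
  have hpp : p.Prime := (CharP.char_is_prime_or_zero (𝓞 K ⧸ P.1) p).resolve_right
    (CharP.char_ne_zero_of_finite (𝓞 K ⧸ P.1) p)
  haveI := Fintype.ofFinite (𝓞 K ⧸ P.1)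
  obtain ⟨n, -, hn⟩ := FiniteField.card (𝓞 K ⧸ P.1) p
  exact ⟨p, n, hpp, n.pos, by rw [← hcard, Nat.card_eq_fintype_card, hn],
    Ideal.Quotient.eq_zero_iff_mem.mp (by rw [map_natCast, CharP.cast_eq_zero])⟩

/-- Few primes lie over a rational prime. -/
theorem card_primesOver_le {p : ℕ} (hp : p.Prime) (u : Finset (PrimeId K)) (h : ∀ P ∈ u, (p : 𝓞 K) ∈ P.1) :
    u.card ≤ Module.finrank ℚ K := by
  classical
  have hp0 : (Ideal.span {(p : 𝓞 K)}) ≠ ⊥ := by
    rw [Ne, Ideal.span_singleton_eq_bot]; exact_mod_cast hp.ne_zero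
  have hdvd : ∏ P ∈ u, P.1 ∣ Ideal.span {(p : 𝓞 K)} := by
    rw [← Finset.prod_image (f := fun a : Ideal (𝓞 K) => a) (g := fun P : PrimeId K => P.1) fun a _ b _ hab => Subtype.ext hab]
    refine Finset.prod_primes_dvd _ (fun a ha => ?_) (fun a ha => ?_)
    · obtain ⟨P, -, rfl⟩ := Finset.mem_image.mp ha
      exact Ideal.prime_of_isPrime P.2.2 P.2.1
    · obtain ⟨P, hP, rfl⟩ := Finset.mem_image.mp ha
      rw [Ideal.dvd_span_singleton]; exact h P hP
  have hN : Ideal.absNorm (Ideal.span {(p : 𝓞 K)}) = p ^ Module.finrank ℚ K := by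
    rw [Ideal.absNorm_span_singleton, ← map_natCast (algebraMap ℤ (𝓞 K)), Algebra.norm_algebraMap,
      RingOfIntegers.rank]
    simp
  have h1 : ∏ P ∈ u, Ideal.absNorm P.1 ∣ p ^ Module.finrank ℚ K := by
    rw [← hN, ← map_prod]; exact map_dvd _ hdvd
  have hge : ∀ P ∈ u, p ≤ Ideal.absNorm P.1 := fun P hP => by
    obtain ⟨q, f, hq, hf, hPN, hqP⟩ := P.exists_prime
    have hqp : p = q := by
      by_contra hne
      obtain ⟨a, b, hab⟩ := Int.isCoprime_iff_nat_coprime.mpr
        (show Nat.Coprime (Int.natAbs p) (Int.natAbs q) by simpa using (Nat.coprime_primes hp hq).mpr hne)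
      refine P.2.1.ne_top ((Ideal.eq_top_iff_one _).mpr ?_)
      rw [show (1 : 𝓞 K) = ((1 : ℤ) : 𝓞 K) by simp, ← hab]
      push_cast
      exact add_mem (Ideal.mul_mem_left _ _ (h P hP)) (Ideal.mul_mem_left _ _ hqP)
    rw [hPN, hqp]
    exact Nat.le_self_pow hf.ne' q
  have h2 : p ^ u.card ≤ p ^ Module.finrank ℚ K := by
    refine le_trans ?_ (Nat.le_of_dvd (pow_pos hp.pos _) h1)
    rw [← Finset.prod_const]
    exact Finset.prod_le_prod' hge
  exact (Nat.pow_le_pow_iff_right hp.one_lt).mp h2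

variable (K)

/-- The primes with a prime of degree one above them. -/
def degreeOnePrimes : Set Nat.Primes := {p | Nonempty (𝓞 K →+* ZMod p)}

/-- `Σ p ^ (-σ)` over the primes with a degree one prime above diverges for `σ < 1`. -/
theorem not_summable_degreeOnePrimes {σ : ℝ} (hσ : σ < 1) :
    ¬ Summable fun p : degreeOnePrimes K => ((p.1 : ℕ) : ℝ) ^ (-σ) := by
  classical
  intro hsum
  set τ := max σ (3 / 4) with hτ
  have hτ1 : τ < 1 := max_lt hσ (by norm_num)
  have hτ0 : 3 / 4 ≤ τ := le_max_right _ _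
  have hppos : ∀ p : Nat.Primes, (1 : ℝ) ≤ ((p : ℕ) : ℝ) := fun p => by exact_mod_cast p.2.one_lt.le
  -- a summable majorant on the rational primes
  let w : Nat.Primes → ℝ := fun p =>
    (if p ∈ degreeOnePrimes K then ((p : ℕ) : ℝ) ^ (-τ) else 0) + ((p : ℕ) : ℝ) ^ (-(2 * τ))
  have hw : Summable w := by
    refine Summable.add ?_ ?_
    · have h' : Summable fun p : degreeOnePrimes K => ((p.1 : ℕ) : ℝ) ^ (-τ) :=
        hsum.of_nonneg_of_le (fun p => Real.rpow_nonneg (Nat.cast_nonneg _) _) fun p =>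
          Real.rpow_le_rpow_of_exponent_le (hppos p.1) (neg_le_neg (le_max_left _ _))
      exact ((summable_subtype_iff_indicator (f := fun p : Nat.Primes => ((p : ℕ) : ℝ) ^ (-τ))).mp h').congr
        fun p => by rw [Set.indicator_apply]
    · exact (Real.summable_nat_rpow.mpr (by linarith)).comp_injective
        (i := fun p : Nat.Primes => (p : ℕ)) Nat.Primes.coe_nat_injective
  have hw0 : ∀ p, 0 ≤ w p := fun p => by
    refine add_nonneg ?_ (Real.rpow_nonneg (Nat.cast_nonneg _) _)
    split_ifs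
    · exact Real.rpow_nonneg (Nat.cast_nonneg _) _
    · exact le_rfl
  choose q f hq hf hN hqP using fun P : PrimeId K => P.exists_prime
  let π : PrimeId K → Nat.Primes := fun P => ⟨q P, hq P⟩
  let z : PrimeId K → ℝ := fun P => (Ideal.absNorm P.1 : ℝ) ^ (-τ)
  have hz0 : ∀ P, 0 ≤ z P := fun P => Real.rpow_nonneg (Nat.cast_nonneg _) _
  have hzw : ∀ P, z P ≤ w (π P) := by
    intro P
    have hq1 : (1 : ℝ) ≤ (q P : ℝ) := hppos (π P)
    show (Ideal.absNorm P.1 : ℝ) ^ (-τ) ≤ _
    rw [hN P, Nat.cast_pow, ← Real.rpow_natCast, ← Real.rpow_mul (by linarith)]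
    rcases (Nat.succ_le_iff.mpr (hf P)).lt_or_eq with h2 | h1
    · refine le_trans (Real.rpow_le_rpow_of_exponent_le hq1 ?_) (le_add_of_nonneg_left ?_)
      · have : (2 : ℝ) ≤ (f P : ℝ) := by exact_mod_cast h2
        nlinarith
      · split_ifs
        · exact Real.rpow_nonneg (Nat.cast_nonneg _) _
        · exact le_rfl
    · have hmem : π P ∈ degreeOnePrimes K := by
        haveI : P.1.IsMaximal := P.2.1.isMaximal P.2.2
        haveI : Fact (q P).Prime := ⟨hq P⟩
        refine ⟨?_⟩
        have hc : Nat.card (𝓞 K ⧸ P.1) = q P := by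
          rw [← Submodule.cardQuot_apply, ← Ideal.absNorm_apply, hN P, ← h1, pow_one]
        haveI : Finite (𝓞 K ⧸ P.1) := Nat.finite_of_card_ne_zero (hc ▸ (hq P).ne_zero)
        haveI := Fintype.ofFinite (𝓞 K ⧸ P.1)
        exact (ZMod.ringEquivOfPrime (𝓞 K ⧸ P.1) (hq P) (by rw [← Nat.card_eq_fintype_card, hc])).symm.toRingHom.comp
          (Ideal.Quotient.mk P.1)
      rw [← h1, Nat.cast_one, one_mul]
      refine le_add_of_le_of_nonneg ?_ (Real.rpow_nonneg (Nat.cast_nonneg _) _)
      rw [if_pos hmem]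
  have hz : Summable z := by
    refine summable_of_sum_le (c := Module.finrank ℚ K * ∑' p, w p) hz0 fun u => ?_
    calc ∑ P ∈ u, z P ≤ ∑ P ∈ u, w (π P) := Finset.sum_le_sum fun P _ => hzw P
      _ = ∑ p ∈ u.image π, ((u.filter fun P => π P = p).card : ℝ) * w p := by
        rw [← Finset.sum_fiberwise_of_maps_to (g := π) fun P hP => Finset.mem_image_of_mem π hP]
        refine Finset.sum_congr rfl fun p _ => ?_
        rw [Finset.sum_congr rfl fun P hP => by rw [(Finset.mem_filter.mp hP).2], Finset.sum_const, nsmul_eq_mul]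
      _ ≤ ∑ p ∈ u.image π, (Module.finrank ℚ K : ℝ) * w p := by
        refine Finset.sum_le_sum fun p _ => mul_le_mul_of_nonneg_right ?_ (hw0 p)
        exact_mod_cast card_primesOver_le p.2 _ fun P hP => by
          rw [← (Finset.mem_filter.mp hP).2]; exact hqP P
      _ ≤ _ := by
        rw [← Finset.mul_sum]
        exact mul_le_mul_of_nonneg_left (hw.sum_le_tsum _ fun p _ => hw0 p) (Nat.cast_nonneg _)
  have hmon : Summable (mon z) :=
    summable_mon z ((2 : ℝ) ^ (-τ)) (Real.rpow_lt_one_of_one_lt_of_neg one_lt_two (by linarith)) hz0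
      (fun P => Real.rpow_le_rpow_of_nonpos two_pos (by exact_mod_cast P.two_le) (by linarith)) hz
  -- ideals as monomials
  let F : (nonZeroDivisors (Ideal (𝓞 K))) → (PrimeId K →₀ ℕ) := fun I =>
    Multiset.toFinsupp ((normalizedFactors (I : Ideal (𝓞 K))).pmap
      (fun Q h => (⟨Q, h⟩ : PrimeId K)) fun Q hQ =>
        ⟨Ideal.isPrime_of_prime (prime_of_normalized_factor Q hQ), (prime_of_normalized_factor Q hQ).ne_zero⟩)
  have hFval : ∀ I, mon z (F I) = (Ideal.absNorm (I : Ideal (𝓞 K)) : ℝ) ^ (-τ) := by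
    intro I
    have hI0 : (I : Ideal (𝓞 K)) ≠ 0 := nonZeroDivisors.ne_zero I.2
    have key : ∀ s : Multiset (PrimeId K), mon z (Multiset.toFinsupp s) = (s.map z).prod := by
      intro s
      induction s using Multiset.induction_on with
      | empty => simp [mon]
      | cons a s ih =>
        rw [← Multiset.singleton_add, map_add, mon_add, Multiset.toFinsupp_singleton, mon_single, pow_one,
          ih, Multiset.map_add, Multiset.prod_add, Multiset.map_singleton, Multiset.prod_singleton]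
    rw [key, Multiset.map_pmap]
    simp only [z, Multiset.pmap_eq_map]
    conv_rhs => rw [← Ideal.prod_normalizedFactors_eq_self hI0, map_multiset_prod]
    induction normalizedFactors (I : Ideal (𝓞 K)) using Multiset.induction_on with
    | empty => simp
    | cons a s ih =>
      rw [Multiset.map_cons, Multiset.prod_cons, ih, Multiset.map_cons, Multiset.prod_cons, Nat.cast_mul,
        Real.mul_rpow (Nat.cast_nonneg _) (Nat.cast_nonneg _)]
  have hFinj : Function.Injective F := by
    intro I J hIJ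
    have h := Multiset.toFinsupp.injective hIJ
    have h' := congrArg (Multiset.map Subtype.val) h
    simp only [Multiset.map_pmap, Multiset.pmap_eq_map, Multiset.map_id'] at h'
    refine Subtype.ext ?_
    rw [← Ideal.prod_normalizedFactors_eq_self (nonZeroDivisors.ne_zero I.2),
      ← Ideal.prod_normalizedFactors_eq_self (nonZeroDivisors.ne_zero J.2), h']
  set S := ∑' α, mon z α
  have hbound : ∀ n : ℕ, 1 ≤ n →
      (Nat.card {I : nonZeroDivisors (Ideal (𝓞 K)) // (Ideal.absNorm (I : Ideal (𝓞 K)) : ℝ) ≤ n} : ℝ) ≤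
        (n : ℝ) ^ τ * S := by
    intro n hn
    haveI hfin : Finite {I : nonZeroDivisors (Ideal (𝓞 K)) // Ideal.absNorm (I : Ideal (𝓞 K)) ≤ n} :=
      Ideal.finite_setOfPred_absNorm_le₀ n
    haveI : Finite {I : nonZeroDivisors (Ideal (𝓞 K)) // (Ideal.absNorm (I : Ideal (𝓞 K)) : ℝ) ≤ n} :=
      Finite.of_injective
        (fun I => (⟨I.1, by exact_mod_cast I.2⟩ : {I : nonZeroDivisors (Ideal (𝓞 K)) // Ideal.absNorm (I : Ideal (𝓞 K)) ≤ n}))
        (fun I J h => Subtype.ext (congrArg Subtype.val h :))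
    haveI := Fintype.ofFinite {I : nonZeroDivisors (Ideal (𝓞 K)) // (Ideal.absNorm (I : Ideal (𝓞 K)) : ℝ) ≤ n}
    have hn0 : (0 : ℝ) < n := by exact_mod_cast hn
    have h1 : (Nat.card {I : nonZeroDivisors (Ideal (𝓞 K)) // (Ideal.absNorm (I : Ideal (𝓞 K)) : ℝ) ≤ n} : ℝ) *
        (n : ℝ) ^ (-τ) ≤ S := by
      rw [Nat.card_eq_fintype_card, ← nsmul_eq_mul, ← Finset.card_univ, ← Finset.sum_const]
      refine le_trans (Finset.sum_le_sum (g := fun I => mon z (F I.1)) fun I _ => ?_) ?_
      · rw [hFval]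
        refine Real.rpow_le_rpow_of_nonpos ?_ I.2 (by linarith)
        exact_mod_cast Nat.pos_of_ne_zero fun h =>
          nonZeroDivisors.ne_zero I.1.2 (Ideal.absNorm_eq_zero_iff.mp h)
      · rw [← Finset.sum_image (f := fun α => mon z α) (g := fun I => F I.1)
          fun a _ b _ hab => Subtype.ext (hFinj hab)]
        exact hmon.sum_le_tsum _ fun α _ => Finset.prod_nonneg fun i _ => pow_nonneg (hz0 i) _
    rw [Real.rpow_neg hn0.le, ← div_eq_mul_inv, div_le_iff₀ (Real.rpow_pos_of_pos hn0 _)] at h1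
    linarith
  -- compare with the asymptotic count
  have hlim := (Ideal.tendsto_norm_le_div_atTop₀ K).comp tendsto_natCast_atTop_atTop
  have hzero : Tendsto (fun n : ℕ => S * (n : ℝ) ^ (-(1 - τ))) atTop (𝓝 0) := by
    have := ((tendsto_rpow_neg_atTop (by linarith : 0 < 1 - τ)).comp tendsto_natCast_atTop_atTop).const_mul S
    simpa using this
  have hle := le_of_tendsto_of_tendsto hlim hzero ((eventually_ge_atTop 1).mono fun n hn => by
    have hn0 : (0 : ℝ) < n := by exact_mod_cast hn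
    simp only [Function.comp_apply]
    refine (div_le_div_of_nonneg_right (hbound n hn) hn0.le).trans (le_of_eq ?_)
    rw [mul_comm, mul_div_assoc, neg_sub, Real.rpow_sub hn0, Real.rpow_one])
  have hpos := NumberField.dedekindZeta_residue_pos K
  rw [NumberField.dedekindZeta_residue_def] at hpos
  linarith

end Groth.Agent.LangWeilWeak
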