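import Groth.Agent.LangWeilWeak.ArithStep
import Groth.Agent.LangWeilWeak.DegreeOnePrimes
import Groth.Agent.LangWeilWeak.Abscissa
import Mathlib.RingTheory.MvPolynomial.Localization
import Mathlib.RingTheory.KrullDimension.PID
import Mathlib.RingTheory.KrullDimension.Polynomial
import Mathlib.RingTheory.Localization.Integral

/-!
# The abscissa of convergence of the zeta function of an arithmetic scheme
-/

set_option autoImplicit false
set_option linter.style.haveILetI false
set_option backward.isDefEq.respectTransparency false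

noncomputable section

namespace Groth.Agent.LangWeilWeak

open CategoryTheory AlgebraicGeometry Filter Topology
open Groth.Agent.ZetaLib

universe u

/-! ### Good primes -/

/-- Enough points over enough prime fields, exponent `r`. -/
def PrimeCount (A : Type u) [CommRing A] (r : ℕ) : Prop :=
  ∃ c : ℝ, 0 < c ∧ ∃ P : Set Nat.Primes, (∀ σ : ℝ, σ < 1 → ¬ Summable fun p : P => ((p.1 : ℕ) : ℝ) ^ (-σ)) ∧
    ∀ p ∈ P, c * ((p : ℕ) : ℝ) ^ r ≤ (Nat.card (A →+* ULift.{u} (ZMod p)) : ℝ)

theorem not_summable_sdiff_finite {P F : Set Nat.Primes} (hF : F.Finite) {g : Nat.Primes → ℝ}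
    (h : ¬ Summable fun p : P => g p.1) : ¬ Summable fun p : (P \ F : Set Nat.Primes) => g p.1 := by
  intro hs
  apply h
  have h1 := (summable_subtype_iff_indicator (f := g) (s := P \ F)).mp hs
  refine (summable_subtype_iff_indicator (f := g) (s := P)).mpr ?_
  refine h1.congr_cofinite ?_
  refine (eventually_cofinite.mpr (hF.subset fun p hp => ?_))
  by_contra hpF
  refine hp ?_
  show Set.indicator (P \ F) g p = Set.indicator P g p
  by_cases hpP : p ∈ P <;> simp [Set.indicator_apply, hpP, hpF]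

/-- Finitely generated subrings of number fields. -/
theorem primeCount_zero {K : Type u} [Field K] [Algebra ℚ K] [Algebra.EssFiniteType ℚ K]
    [Algebra.IsAlgebraic ℚ K] (A : Subalgebra ℤ K) (hA : A.FG) : PrimeCount A 0 := by
  classical
  haveI : CharZero K := charZero_of_injective_algebraMap (algebraMap ℚ K).injective
  haveI hfd : FiniteDimensional ℚ K := Algebra.finite_of_essFiniteType_of_isAlgebraic
  haveI : NumberField K :=
    { to_charZero := inferInstance
      to_finiteDimensional := by convert hfd using 1; all_goals first | rfl | exact Subsingleton.elim _ _ }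
  obtain ⟨gA, hgA⟩ := hA
  have hden : ∀ g : K, ∃ d : ℕ, d ≠ 0 ∧ IsIntegral ℤ ((d : K) * g) := by
    intro g
    obtain ⟨⟨m, hm⟩, hint⟩ := IsIntegral.exists_multiple_integral_of_isLocalization (R := ℤ)
      (nonZeroDivisors ℤ) (Rₘ := ℚ) g (Algebra.IsIntegral.isIntegral g)
    refine ⟨m.natAbs, Int.natAbs_ne_zero.mpr (nonZeroDivisors.ne_zero hm), ?_⟩
    have h' : IsIntegral ℤ ((m : K) * g) := by
      rwa [Submonoid.smul_def, zsmul_eq_mul] at hint
    rcases Int.natAbs_eq m with h | h <;> rw [h] at h'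
    · simpa using h'
    · simpa using h'.neg
  choose d hd0 hd using hden
  set n : ℕ := ∏ g ∈ gA, d g with hn
  have hn0 : n ≠ 0 := Finset.prod_ne_zero_iff.mpr fun g _ => hd0 g
  let O := NumberField.RingOfIntegers K
  let S := Localization.Away (n : O)
  have hnK : IsUnit (algebraMap O K (n : O)) := by
    rw [map_natCast]; exact (Nat.cast_ne_zero.mpr hn0 : (n : K) ≠ 0).isUnit
  let θ : S →+* K := IsLocalization.Away.lift (n : O) hnK
  have hθ : Function.Injective θ := by
    refine (IsLocalization.lift_injective_iff _).mpr fun x y => ⟨fun h => congrArg (algebraMap O K) ?_, fun h => ?_⟩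
    · exact IsLocalization.injective S (M := Submonoid.powers (n : O)) (le_nonZeroDivisors_of_noZeroDivisors (by
        rintro ⟨i, hi⟩
        exact (pow_ne_zero i (Nat.cast_ne_zero.mpr hn0 : (n : O) ≠ 0)) hi)) h
    · rw [NumberField.RingOfIntegers.coe_injective h]
  have hAθ : ∀ a ∈ A, a ∈ θ.range := by
    intro a ha
    rw [← hgA] at ha
    induction ha using Algebra.adjoin_induction with
    | mem g hg =>
      refine ⟨algebraMap O S (((n / d g : ℕ) : O) * ⟨(d g : K) * g, hd g⟩) * IsLocalization.Away.invSelf (n : O), ?_⟩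
      have hmul : (n / d g) * d g = n := Nat.div_mul_cancel (Finset.dvd_prod_of_mem d hg)
      have hinv : θ (IsLocalization.Away.invSelf (n : O)) = (n : K)⁻¹ := by
        refine eq_inv_of_mul_eq_one_left ?_
        rw [← map_natCast (algebraMap O K) n, ← IsLocalization.Away.lift_eq (S := S) (n : O) hnK (n : O), ← map_mul, mul_comm,
          IsLocalization.Away.mul_invSelf, map_one]
      rw [map_mul, IsLocalization.Away.lift_eq, hinv, map_mul, map_natCast]
      show ((n / d g : ℕ) : K) * ((d g : K) * g) * (n : K)⁻¹ = g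
      rw [← _root_.mul_assoc, ← Nat.cast_mul, hmul, mul_right_comm, mul_inv_cancel₀ (Nat.cast_ne_zero.mpr hn0), _root_.one_mul]
    | algebraMap z => exact intCast_mem θ.range z
    | add _ _ _ _ hx hy => exact add_mem hx hy
    | mul _ _ _ _ hx hy => exact mul_mem hx hy
  let j : A →+* S :=
    (RingEquiv.ofBijective θ.rangeRestrict ⟨fun x y h => hθ (congrArg Subtype.val h),
      θ.rangeRestrict_surjective⟩).symm.toRingHom.comp
      ((algebraMap A K).codRestrict θ.range fun a => hAθ a.1 a.2)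
  have hfin : {p : Nat.Primes | (p : ℕ) ∣ n}.Finite := by
    refine Set.Finite.of_finite_image (f := fun p : Nat.Primes => (p : ℕ))
      ((Set.finite_Iic n).subset ?_) Nat.Primes.coe_nat_injective.injOn
    rintro _ ⟨p, hp, rfl⟩
    exact Nat.le_of_dvd (Nat.pos_of_ne_zero hn0) hp
  refine ⟨1, one_pos, degreeOnePrimes K \ {p | (p : ℕ) ∣ n},
    fun σ hσ => not_summable_sdiff_finite hfin (g := fun p : Nat.Primes => ((p : ℕ) : ℝ) ^ (-σ))
      (not_summable_degreeOnePrimes K hσ), ?_⟩
  rintro p ⟨⟨ψ⟩, hpn⟩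
  haveI : Fact (p : ℕ).Prime := ⟨p.2⟩
  haveI : Algebra.FiniteType ℤ A := A.fg_iff_finiteType.mp ⟨gA, hgA⟩
  haveI := finite_ringHom_int A (ULift.{u} (ZMod p))
  let ψ' : O →+* ULift.{u} (ZMod p) := ULift.ringEquiv.symm.toRingHom.comp ψ
  have hu : IsUnit (ψ' (n : O)) := by
    rw [map_natCast]
    refine Ne.isUnit fun h => hpn ?_
    have h' := congrArg ULift.ringEquiv h
    rw [map_natCast, map_zero] at h'
    exact (ZMod.natCast_eq_zero_iff _ _).mp h'
  haveI : Nonempty (A →+* ULift.{u} (ZMod p)) := ⟨(IsLocalization.Away.lift (n : O) hu).comp j⟩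
  simpa using (Nat.one_le_cast (α := ℝ)).mpr (Nat.card_pos (α := A →+* ULift.{u} (ZMod p)))

/-- **Good primes in every dimension.** -/
theorem primeCount_of_fg : ∀ (r : ℕ) (K : Type u) [Field K] [Algebra ℚ K] [Algebra.EssFiniteType ℚ K],
    Algebra.trdeg ℚ K = (r : Cardinal) → ∀ A : Subalgebra ℤ K, A.FG →
      IntermediateField.adjoin ℚ (A : Set K) = ⊤ → PrimeCount A r := by
  intro r
  induction r with
  | zero =>
    intro K _ _ _ htr A hA _
    haveI : Algebra.IsAlgebraic ℚ K := trdeg_eq_zero_iff.mp (by simpa using htr)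
    exact primeCount_zero A hA
  | succ r ih =>
    intro K _ _ _ htr A hA hAK
    obtain ⟨L, B, hLf, hLtr, hBfg, hBL, c', M, hc', hM⟩ := exists_step_int htr A hA hAK
    haveI := hLf
    obtain ⟨c, hc, P, hP, hcount⟩ := ih L hLtr B hBfg hBL
    have hfin : {p : Nat.Primes | (p : ℕ) < M}.Finite := by
      refine Set.Finite.of_finite_image (f := fun p : Nat.Primes => (p : ℕ))
        ((Set.finite_Iio M).subset ?_) Nat.Primes.coe_nat_injective.injOn
      rintro _ ⟨p, hp, rfl⟩; exact hp
    refine ⟨c' * c, mul_pos hc' hc, P \ {p | (p : ℕ) < M},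
      fun σ hσ => not_summable_sdiff_finite hfin (g := fun p : Nat.Primes => ((p : ℕ) : ℝ) ^ (-σ)) (hP σ hσ), ?_⟩
    rintro p ⟨hpP, hpM⟩
    haveI : Fact (p : ℕ).Prime := ⟨p.2⟩
    have hcard : Nat.card (ULift.{u} (ZMod p)) = (p : ℕ) := by
      rw [Nat.card_congr Equiv.ulift, Nat.card_zmod]
    have h := hM (ULift.{u} (ZMod p)) (by rw [hcard]; exact not_lt.mp hpM)
    rw [hcard] at h
    refine le_trans ?_ h
    rw [pow_succ]
    nlinarith [mul_le_mul_of_nonneg_left (hcount p hpP) (mul_nonneg hc'.le (Nat.cast_nonneg (α := ℝ) (p : ℕ)))]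

/-! ### Dimension -/

/-- The dimension of a flat finitely generated domain over `ℤ` is at most `trdeg + 1`. -/
theorem ringKrullDim_le_trdeg_add_one (A : Type u) [CommRing A] [IsDomain A] [Algebra.FiniteType ℤ A]
    (K : Type u) [Field K] [Algebra A K] [IsFractionRing A K] [Algebra ℚ K] (d : ℕ)
    (hd : Algebra.trdeg ℚ K = (d : Cardinal)) : ringKrullDim A ≤ ((d + 1 : ℕ) : WithBot ℕ∞) := by
  obtain ⟨n, π, hπ⟩ := Algebra.FiniteType.iff_quotient_mvPolynomial''.mp ‹Algebra.FiniteType ℤ A›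
  let x : Fin n → K := fun i => algebraMap A K (π (MvPolynomial.X i))
  let πQ : MvPolynomial (Fin n) ℚ →ₐ[ℚ] K := MvPolynomial.aeval x
  set Q' : PrimeSpectrum (MvPolynomial (Fin n) ℚ) := ⟨RingHom.ker πQ, RingHom.ker_isPrime _⟩
  set ι : MvPolynomial (Fin n) ℤ →+* MvPolynomial (Fin n) ℚ := MvPolynomial.map (algebraMap ℤ ℚ)
  have hcomp : (πQ : MvPolynomial (Fin n) ℚ →+* K).comp ι = (algebraMap A K).comp π.toRingHom :=
    MvPolynomial.ringHom_ext' (Subsingleton.elim _ _) fun i => by simp [ι, πQ, x]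
  have hmem : ∀ a : A, algebraMap A K a ∈ πQ.range := fun a => by
    obtain ⟨P, rfl⟩ := hπ a
    exact ⟨ι P, RingHom.congr_fun hcomp P⟩
  -- the generic fibre has dimension `d`
  haveI : IsFractionRing πQ.range K := by
    refine IsFractionRing.of_field πQ.range K fun z => ?_
    obtain ⟨a, b, -, rfl⟩ := IsFractionRing.div_surjective (A := A) z
    exact ⟨⟨_, hmem a⟩, ⟨_, hmem b⟩, rfl⟩
  haveI : Algebra.FiniteType ℚ πQ.range :=
    Algebra.FiniteType.of_surjective πQ.rangeRestrict πQ.rangeRestrict_surjective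
  obtain ⟨d', hd1, hd2⟩ := VarDim.exists_dim_eq_trdeg ℚ πQ.range
  have hdd : d' = d := by
    haveI : Algebra.IsAlgebraic πQ.range K := IsLocalization.isAlgebraic K (nonZeroDivisors πQ.range)
    have h := trdeg_add_eq ℚ πQ.range (A := K)
    rw [trdeg_eq_zero (R := πQ.range) (A := K), add_zero, hd2, hd] at h
    exact_mod_cast h
  have hquot : ringKrullDim (MvPolynomial (Fin n) ℚ ⧸ Q'.asIdeal) = d := by
    rw [show Q'.asIdeal = RingHom.ker πQ.rangeRestrict.toRingHom from (AlgHom.ker_rangeRestrict πQ).symm]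
    exact (ringKrullDim_eq_of_ringEquiv
      (RingHom.quotientKerEquivOfSurjective (f := πQ.rangeRestrict.toRingHom) πQ.rangeRestrict_surjective)).trans (hd1.trans (by rw [hdd]))
  have hQdim : (n : WithBot ℕ∞) ≤ ((Order.height Q' : ℕ∞) : WithBot ℕ∞) + d := by
    have h := VarDim.height_add_coheight_eq ℚ n (MvPolynomial (Fin n) ℚ) (by
      rw [MvPolynomial.ringKrullDim_of_isNoetherianRing, ringKrullDim_eq_zero_of_field, zero_add, Nat.card_fin]) Q'
    have hc := VarDim.coheight_eq_ringKrullDim_quotient Q'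
    rw [hquot] at hc
    rw [← hc, ← WithBot.coe_add, h]
    rfl
  -- contract to `ℤ[X]`
  set Q : PrimeSpectrum (MvPolynomial (Fin n) ℤ) := PrimeSpectrum.comap ι Q' with hQ
  have hmono : Order.height Q' ≤ Order.height Q := by
    letI : Algebra (MvPolynomial (Fin n) ℤ) (MvPolynomial (Fin n) ℚ) := MvPolynomial.algebraMvPolynomial
    refine Order.height_le_height_apply_of_strictMono (PrimeSpectrum.comap ι) ?_ Q'
    intro P P' hPP'
    refine lt_of_le_of_ne (fun x hx => hPP'.le hx) fun h => hPP'.ne ?_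
    exact PrimeSpectrum.localization_comap_injective (MvPolynomial (Fin n) ℚ)
      (Submonoid.map (MvPolynomial.C (σ := Fin n)) (nonZeroDivisors ℤ)) h
  have hker : Q.asIdeal = RingHom.ker π.toRingHom := by
    ext P
    show πQ (ι P) = 0 ↔ π P = 0
    rw [show πQ (ι P) = algebraMap A K (π P) from RingHom.congr_fun hcomp P]
    exact map_eq_zero_iff _ (IsFractionRing.injective A K)
  have hA : ringKrullDim A = ((Order.coheight Q : ℕ∞) : WithBot ℕ∞) := by
    rw [VarDim.coheight_eq_ringKrullDim_quotient, hker]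
    exact (ringKrullDim_eq_of_ringEquiv (RingHom.quotientKerEquivOfSurjective (f := π.toRingHom) hπ)).symm
  have htot := VarDim.height_add_coheight_le Q
  rw [MvPolynomial.ringKrullDim_of_isNoetherianRing, IsPrincipalIdealRing.ringKrullDim_eq_one ℤ Int.not_isField,
    Nat.card_fin, WithBot.coe_add] at htot
  rw [hA]
  -- `coheight Q ≤ n + 1 - height Q ≤ d + 1`
  have h1 : ((Order.height Q' : ℕ∞) : WithBot ℕ∞) ≤ ((Order.height Q : ℕ∞) : WithBot ℕ∞) := WithBot.coe_le_coe.mpr hmono
  generalize Order.coheight Q = cq at htot ⊢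
  generalize Order.height Q = hq at htot h1
  generalize Order.height Q' = hq' at hQdim h1
  have e1 : (hq' : ℕ∞) ≤ hq := WithBot.coe_le_coe.mp h1
  have e2 : (n : ℕ∞) ≤ hq' + (d : ℕ∞) := WithBot.coe_le_coe.mp hQdim
  have e3 : hq + cq ≤ (1 : ℕ∞) + (n : ℕ∞) := WithBot.coe_le_coe.mp htot
  refine WithBot.coe_le_coe.mpr (?_ : cq ≤ ((d + 1 : ℕ) : ℕ∞))
  obtain ⟨hq0, rfl⟩ : ∃ a : ℕ, hq = a := by
    refine ENat.ne_top_iff_exists.mp (fun h => ?_) |>.imp fun a h => h.symm
    rw [h, top_add] at e3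
    exact absurd e3 (by rw [← Nat.cast_one, ← Nat.cast_add]; simp)
  obtain ⟨cq0, rfl⟩ : ∃ a : ℕ, cq = a := by
    refine ENat.ne_top_iff_exists.mp (fun h => ?_) |>.imp fun a h => h.symm
    rw [h, add_top] at e3
    exact absurd e3 (by rw [← Nat.cast_one, ← Nat.cast_add]; simp)
  obtain ⟨hq1, rfl⟩ : ∃ a : ℕ, hq' = a := by
    refine ENat.ne_top_iff_exists.mp (fun h => ?_) |>.imp fun a h => h.symm
    rw [h] at e1; simp at e1
  norm_cast at e1 e2 e3 ⊢
  omega

/-! ### Schemes -/

variable {X : Scheme.{u}} (f : X ⟶ Spec (CommRingCat.of (ULift.{u} ℤ))) [LocallyOfFiniteType f] [QuasiCompact f]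
include f

/-- A point with finite residue field is closed. -/
theorem isClosed_of_finite_residueField_int (x : X) [Finite (X.residueField x)] : IsClosed ({x} : Set X) := by
  obtain ⟨n, A, j, hj, -, -, hcov⟩ := exists_affine_cover f
  refine isOpen_compl_iff.mp ?_
  have hset : ({x} : Set X)ᶜ = ⋃ i, (j i) '' ((j i) ⁻¹' {x}ᶜ) := by
    ext z
    simp only [Set.mem_iUnion, Set.mem_image, Set.mem_preimage]
    refine ⟨fun hz => ?_, ?_⟩
    · obtain ⟨i, y, rfl⟩ := hcov z; exact ⟨i, y, hz, rfl⟩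
    · rintro ⟨i, y, hy, rfl⟩; exact hy
  rw [hset]
  refine isOpen_iUnion fun i => (j i).isOpenEmbedding.isOpenMap _ ?_
  haveI := hj i
  rcases Set.eq_empty_or_nonempty ((j i) ⁻¹' {x}) with h0 | ⟨y, hy⟩
  · rw [Set.preimage_compl, h0, Set.compl_empty]; exact isOpen_univ
  · have hsingle : (j i) ⁻¹' {x} = {y} := by
      ext z
      refine ⟨fun hz => (j i).isOpenEmbedding.injective (hz.trans hy.symm), fun hz => hz ▸ hy⟩
    rw [Set.preimage_compl, hsingle, isOpen_compl_iff]
    subst hy
    haveI : Finite ((Spec (A i)).residueField y) := by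
      refine Nat.finite_of_card_ne_zero ?_
      rw [card_residueField_of_preimmersion (j i) y]
      exact Nat.card_pos.ne'
    -- the prime has a finite quotient
    let φ : (A i : Type u) →+* (Spec (A i)).residueField y :=
      (Spec.preimage ((Spec (A i)).fromSpecResidueField y)).hom
    have hy' : y = ⟨RingHom.ker φ, RingHom.ker_isPrime φ⟩ := by
      have h := (Spec (A i)).fromSpecResidueField_apply y (IsLocalRing.closedPoint _)
      rw [← Spec.map_preimage ((Spec (A i)).fromSpecResidueField y)] at h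
      refine h.symm.trans (PrimeSpectrum.ext ?_)
      show Ideal.comap φ (IsLocalRing.maximalIdeal _) = _
      rw [IsLocalRing.maximalIdeal_eq_bot]
      rfl
    rw [hy']
    refine (PrimeSpectrum.isClosed_singleton_iff_isMaximal _).mpr ?_
    haveI : Finite ((A i : Type u) ⧸ RingHom.ker φ) := Finite.of_injective _ (RingHom.kerLift_injective φ)
    haveI : IsDomain ((A i : Type u) ⧸ RingHom.ker φ) := by
      haveI := RingHom.ker_isPrime φ
      infer_instance
    exact Ideal.Quotient.maximal_of_isField _ (Finite.isField_of_domain _)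

/-- Points over prime fields force divergence over closed points. -/
theorem not_summable_of_primeCount {A : Type u} [CommRing A] [Algebra.FiniteType ℤ A]
    (j : Spec (CommRingCat.of A) ⟶ X) [IsPreimmersion j] {d : ℕ} (hA : PrimeCount A d)
    {s : ℝ} (hs : s < d + 1) :
    ¬ Summable fun x : ClosedPt X => (ptNorm x : ℝ) ^ (-s) := by
  classical
  intro hsum
  obtain ⟨c, hc, P, hP, hcount⟩ := hA
  haveI : ∀ p : Nat.Primes, Fact (p : ℕ).Prime := fun p => ⟨p.2⟩
  haveI : ∀ p : Nat.Primes, Finite (A →+* ULift.{u} (ZMod p)) := fun p => finite_ringHom_int A _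
  let e : ∀ p : Nat.Primes, (A →+* ULift.{u} (ZMod p)) →
      Σ x : X, (X.residueField x ⟶ CommRingCat.of (ULift.{u} (ZMod p))) := fun p ψ =>
    Scheme.SpecToEquivOfField (ULift.{u} (ZMod p)) X (Spec.map (CommRingCat.ofHom ψ) ≫ j)
  have he : ∀ p, Function.Injective (e p) := fun p ψ ψ' h => by
    have h1 := Spec.map_injective ((cancel_mono j).mp ((Scheme.SpecToEquivOfField _ X).injective h))
    exact congrArg (fun φ => φ.hom) h1
  have hcard : ∀ p : Nat.Primes, Nat.card (ULift.{u} (ZMod p)) = (p : ℕ) := fun p => by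
    rw [Nat.card_congr Equiv.ulift, Nat.card_zmod]
  have hres : ∀ p ψ, Finite (X.residueField (e p ψ).1) ∧ Nat.card (X.residueField (e p ψ).1) = (p : ℕ) := by
    intro p ψ
    set σ := (e p ψ).2.hom
    haveI : Finite (X.residueField (e p ψ).1) := Finite.of_injective _ σ.injective
    refine ⟨inferInstance, ?_⟩
    refine Eq.trans ?_ (hcard p)
    refine Nat.card_congr (Equiv.ofBijective σ ⟨σ.injective, fun z => ?_⟩)
    obtain ⟨z⟩ := z
    obtain ⟨i, rfl⟩ := ZMod.intCast_surjective z
    exact ⟨i, by rw [map_intCast]; rfl⟩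
  let G : (Σ p : P, (A →+* ULift.{u} (ZMod p.1))) → ClosedPt X := fun t =>
    ⟨(e t.1.1 t.2).1, by
      haveI := (hres t.1.1 t.2).1
      exact isClosed_of_finite_residueField_int f _⟩
  have hGn : ∀ t, ptNorm (G t) = ((t.1.1 : Nat.Primes) : ℕ) := fun t => (hres t.1.1 t.2).2
  have hG : Function.Injective G := by
    rintro ⟨p, ψ⟩ ⟨p', ψ'⟩ h
    have hpp : p = p' := Subtype.ext (Nat.Primes.coe_nat_injective ((hGn ⟨p, ψ⟩).symm.trans (h ▸ hGn ⟨p', ψ'⟩)))
    subst hpp
    have h1 : (e p.1 ψ).1 = (e p.1 ψ').1 := congrArg Subtype.val h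
    have huniq : ∀ (κ : CommRingCat.{u}), ∀ a b : κ ⟶ CommRingCat.of (ULift.{u} (ZMod p.1)),
        (∀ z : ULift.{u} (ZMod p.1), ∃ i : ℤ, (i : ULift.{u} (ZMod p.1)) = z) → Function.Injective a.hom → a = b := by
      intro κ a b hz ha
      refine CommRingCat.hom_ext (RingHom.ext fun w => ?_)
      obtain ⟨i, hi⟩ := hz (a.hom w)
      have hw : w = (i : κ) := ha (by rw [map_intCast, hi])
      rw [hw, map_intCast, map_intCast]
    refine congrArg (Sigma.mk p) (he p.1 ?_)
    generalize e p.1 ψ = ea at h1 ⊢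
    generalize e p.1 ψ' = eb at h1 ⊢
    obtain ⟨x, a⟩ := ea
    obtain ⟨x', a'⟩ := eb
    simp only at h1
    subst h1
    congr 1
    refine huniq _ a a' (fun z => ?_) a.hom.injective
    obtain ⟨z⟩ := z
    obtain ⟨i, rfl⟩ := ZMod.intCast_surjective z
    exact ⟨i, rfl⟩
  have h1 : Summable fun t : Σ p : P, (A →+* ULift.{u} (ZMod p.1)) => (((t.1.1 : Nat.Primes) : ℕ) : ℝ) ^ (-s) :=
    (hsum.comp_injective hG).congr fun t => by rw [Function.comp_apply, hGn]
  have h2 := h1.sigma
  refine hP (s - d) (by linarith) (Summable.of_nonneg_of_le (fun p => Real.rpow_nonneg (Nat.cast_nonneg _) _)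
    (fun p => ?_) (h2.mul_left c⁻¹))
  have hp0 : (0 : ℝ) < ((p.1 : ℕ) : ℝ) := by exact_mod_cast p.1.2.pos
  haveI := Fintype.ofFinite (A →+* ULift.{u} (ZMod p.1))
  rw [tsum_fintype]
  simp only []
  rw [Finset.sum_const, Finset.card_univ, ← Nat.card_eq_fintype_card, nsmul_eq_mul,
    inv_mul_eq_div, le_div_iff₀ hc, neg_sub, Real.rpow_sub hp0, Real.rpow_natCast, Real.rpow_neg hp0.le]
  have := mul_le_mul_of_nonneg_right (hcount p.1 p.2) (inv_nonneg.mpr (Real.rpow_pos_of_pos hp0 s).le)
  calc ((p.1 : ℕ) : ℝ) ^ d / ((p.1 : ℕ) : ℝ) ^ s * c = c * ((p.1 : ℕ) : ℝ) ^ d * (((p.1 : ℕ) : ℝ) ^ s)⁻¹ := by ring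
    _ ≤ _ := this

end Groth.Agent.LangWeilWeak
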