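import Groth.Agent.LangWeilWeak.GeomIrred
import Groth.Agent.S6333
import Mathlib.FieldTheory.SeparablyGenerated
import Mathlib.RingTheory.Polynomial.ScaleRoots
import Mathlib.FieldTheory.Isaacs
import Mathlib.FieldTheory.Finite.Basic

/-!
# Function fields over finite fields as families of curves: preparations
-/

set_option autoImplicit false
set_option linter.style.haveILetI false

noncomputable section

namespace Groth.Agent.LangWeilWeak

open Polynomial
open scoped IntermediateField

universe u v

/-- A member of a generated subalgebra involves finitely many generators. -/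
theorem exists_finset_of_mem_algebraAdjoin {R A : Type*} [CommRing R] [CommRing A] [Algebra R A]
    {s : Set A} {x : A} (hx : x ∈ Algebra.adjoin R s) :
    ∃ t : Finset A, (t : Set A) ⊆ s ∧ x ∈ Algebra.adjoin R (t : Set A) := by
  classical
  induction hx using Algebra.adjoin_induction with
  | mem x hx => exact ⟨{x}, by simpa using hx, Algebra.subset_adjoin (by simp)⟩
  | algebraMap r => exact ⟨∅, by simp, Subalgebra.algebraMap_mem _ r⟩
  | add x y _ _ hx hy =>
    obtain ⟨s₁, h1, h1'⟩ := hx
    obtain ⟨s₂, h2, h2'⟩ := hy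
    exact ⟨s₁ ∪ s₂, by simp [h1, h2],
      add_mem (Algebra.adjoin_mono (by simp) h1') (Algebra.adjoin_mono (by simp) h2')⟩
  | mul x y _ _ hx hy =>
    obtain ⟨s₁, h1, h1'⟩ := hx
    obtain ⟨s₂, h2, h2'⟩ := hy
    exact ⟨s₁ ∪ s₂, by simp [h1, h2],
      mul_mem (Algebra.adjoin_mono (by simp) h1') (Algebra.adjoin_mono (by simp) h2')⟩

/-- Fractions from a generating subalgebra. -/
theorem exists_div_of_adjoin_eq_top {k K : Type*} [Field k] [Field K] [Algebra k K] {A : Subalgebra k K}
    (hA : IntermediateField.adjoin k (A : Set K) = ⊤) (z : K) :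
    ∃ a ∈ A, ∃ b ∈ A, b ≠ 0 ∧ b * z = a := by
  obtain ⟨a, ha, b, hb, rfl⟩ := IntermediateField.mem_adjoin_iff_div.mp
    (show z ∈ IntermediateField.adjoin k (A : Set K) by rw [hA]; trivial)
  rw [Algebra.adjoin_eq] at ha hb
  rcases eq_or_ne b 0 with rfl | hb0
  · exact ⟨0, zero_mem _, 1, one_mem _, one_ne_zero, by simp⟩
  · exact ⟨a, ha, b, hb, hb0, mul_div_cancel₀ _ hb0⟩

/-- A finite field embeds in finite fields of divisible degree. -/
theorem nonempty_algHom_finite {k K Fq : Type*} [Field k] [Finite k] [Field K] [Algebra k K]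
    [FiniteDimensional k K] [Field Fq] [Algebra k Fq] [Finite Fq]
    (h : Module.finrank k K ∣ Module.finrank k Fq) : Nonempty (K →ₐ[k] Fq) := by
  haveI : Finite K := Module.finite_of_finite k
  haveI := Fintype.ofFinite K
  haveI := Fintype.ofFinite Fq
  obtain ⟨m, hm⟩ := h
  have hcard : Fintype.card Fq = Fintype.card K ^ m := by
    rw [← Nat.card_eq_fintype_card, ← Nat.card_eq_fintype_card, Module.natCard_eq_pow_finrank (K := k) (V := Fq),
      Module.natCard_eq_pow_finrank (K := k) (V := K), ← pow_mul, hm]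
  refine Field.nonempty_algHom_of_exists_root fun x => ?_
  set Q := Fintype.card Fq
  have hQ : 1 < Q := Fintype.one_lt_card
  have hx : IsIntegral k x := Algebra.IsIntegral.isIntegral x
  have hdvd : minpoly k x ∣ (X ^ Q - X : k[X]) :=
    minpoly.dvd k x (by simp [hcard, FiniteField.pow_card_pow])
  have hsplit : ((X ^ Q - X : k[X]).map (algebraMap k Fq)).Splits := by
    rw [Polynomial.map_sub, Polynomial.map_pow, map_X, splits_iff_card_roots,
      FiniteField.roots_X_pow_card_sub_X, FiniteField.X_pow_card_sub_X_natDegree_eq _ hQ]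
    rfl
  have hne : (X ^ Q - X : k[X]).map (algebraMap k Fq) ≠ 0 := by
    rw [Polynomial.map_sub, Polynomial.map_pow, map_X]
    exact FiniteField.X_pow_card_sub_X_ne_zero _ hQ
  obtain ⟨y, hy⟩ := (hsplit.of_dvd hne (Polynomial.map_dvd _ hdvd)).exists_eval_eq_zero (by
    rw [Polynomial.degree_map]; exact (minpoly.degree_pos hx).ne')
  exact ⟨y, by rwa [eval_map, ← aeval_def] at hy⟩

variable (k : Type v) [Field k] [PerfectField k] (K : Type u) [Field K] [Algebra k K] [Algebra.EssFiniteType k K]

/-- A curve fibration of the field `K`, geometrically irreducible over its base `L`. -/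
theorem exists_fibration {r : ℕ} (hr : Algebra.trdeg k K = ((r + 1 : ℕ) : Cardinal)) :
    ∃ (L : IntermediateField k K) (T y : K) (F : L[X][X]),
      Algebra.EssFiniteType k L ∧ Algebra.trdeg k L = (r : Cardinal) ∧ Transcendental L T ∧
      F.Monic ∧ eval₂ (aeval T : L[X] →ₐ[L] K).toRingHom y F = 0 ∧
      (∀ G : L[X][X], G.degree < F.degree → eval₂ (aeval T : L[X] →ₐ[L] K).toRingHom y G = 0 → G = 0) ∧
      (∀ z : K, ∃ q : L[X], q ≠ 0 ∧ z * aeval T q ∈ Algebra.adjoin L {T, y}) ∧
      Irreducible (F.map (mapRingHom (algebraMap L (AlgebraicClosure L)))) := by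
  classical
  obtain ⟨s, hs, hsep⟩ := exists_isTranscendenceBasis_and_isSeparable_of_perfectField k K
  have hcard : s.card = r + 1 := by
    have h := hs.cardinalMk_eq_trdeg
    rw [hr, Cardinal.mk_coe_finset] at h
    exact_mod_cast h
  obtain ⟨t, ht⟩ := Finset.card_pos.mp (hcard.symm ▸ Nat.succ_pos r : 0 < s.card)
  -- the base
  set F₁ : IntermediateField k K := IntermediateField.adjoin k ((s.erase t : Finset K) : Set K) with hF₁
  set L₀ : IntermediateField F₁ K := algebraicClosure F₁ K with hL₀
  haveI : Algebra.EssFiniteType F₁ K := Algebra.EssFiniteType.of_comp k F₁ K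
  haveI : FiniteDimensional F₁ L₀ := Groth.Agent.S6333.result (IntermediateField.fg_top_iff.mpr inferInstance)
  set L : IntermediateField k K := L₀.restrictScalars k with hL
  haveI : Algebra.EssFiniteType k F₁ :=
    IntermediateField.essFiniteType_iff.mpr (IntermediateField.fg_adjoin_finset _)
  haveI hLfg : Algebra.EssFiniteType k L := by
    show Algebra.EssFiniteType k L₀
    exact Algebra.EssFiniteType.comp k F₁ L₀
  have hclosed : ∀ z : K, IsAlgebraic L z → z ∈ L := by
    intro z hz
    have hz' : IsAlgebraic L₀ z := hz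
    show z ∈ L₀
    rw [hL₀, mem_algebraicClosure_iff]
    haveI : Algebra.IsIntegral F₁ L₀ := Algebra.IsIntegral.of_finite _ _
    exact (isIntegral_trans (R := F₁) z hz'.isIntegral).isAlgebraic
  have hTt : Transcendental L t := by
    have h1 : Transcendental (Algebra.adjoin k (((↑) : s → K) '' {i : s | (i : K) ≠ t})) t :=
      hs.1.transcendental_adjoin (i := ⟨t, ht⟩) (s := {i : s | (i : K) ≠ t}) (by simp)
    have h2 : ((↑) : s → K) '' {i : s | (i : K) ≠ t} = ((s.erase t : Finset K) : Set K) := by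
      ext x; simp [and_comm]
    rw [h2] at h1
    have h3 : Transcendental F₁ t := IntermediateField.transcendental_adjoin_iff.mpr h1
    haveI : Algebra.IsIntegral F₁ L₀ := Algebra.IsIntegral.of_finite _ _
    exact h3.extendScalars_of_isIntegral (S := L₀)
  set F₂ : IntermediateField L K := L⟮t⟯ with hF₂
  -- `K` is finite separable over `L(t)`
  have hle : IntermediateField.adjoin k (s : Set K) ≤ F₂.restrictScalars k := by
    rw [IntermediateField.adjoin_le_iff]
    intro x hx
    by_cases hxt : x = t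
    · subst hxt; exact IntermediateField.mem_adjoin_simple_self L x
    · have : x ∈ L₀ := IntermediateField.algebraMap_mem L₀
        (⟨x, IntermediateField.subset_adjoin k _ (Finset.mem_coe.mpr (Finset.mem_erase.mpr ⟨hxt, hx⟩))⟩ : F₁)
      exact F₂.algebraMap_mem ⟨x, this⟩
  haveI hsep2 : Algebra.IsSeparable F₂ K := by
    letI : Algebra (IntermediateField.adjoin k (s : Set K)) F₂ :=
      (IntermediateField.inclusion hle).toRingHom.toAlgebra
    haveI : IsScalarTower (IntermediateField.adjoin k (s : Set K)) F₂ K :=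
      IsScalarTower.of_algebraMap_eq fun _ => rfl
    exact Algebra.isSeparable_tower_top_of_isSeparable (IntermediateField.adjoin k (s : Set K)) F₂ K
  haveI : Algebra.EssFiniteType F₂ K := by
    haveI : Algebra.EssFiniteType L K := Algebra.EssFiniteType.of_comp k L K
    exact Algebra.EssFiniteType.of_comp L F₂ K
  haveI : FiniteDimensional F₂ K := Algebra.finite_of_essFiniteType_of_isAlgebraic
  obtain ⟨y₀, hy₀⟩ := Field.exists_primitive_element F₂ K
  -- transcendence degree of the base
  have htrd : Algebra.trdeg k L = (r : Cardinal) := by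
    have hLK : Algebra.trdeg L K = 1 := by
      have hb : IsTranscendenceBasis L (fun _ : Fin 1 => t) := by
        refine (AlgebraicIndependent.isTranscendenceBasis_iff_isAlgebraic
          (algebraicIndependent_unique_type_iff.mpr hTt)).mpr ?_
        rw [← IntermediateField.isAlgebraic_adjoin_iff_top, Set.range_const]
        exact Algebra.IsAlgebraic.of_finite _ _
      simpa using hb.lift_cardinalMk_eq_trdeg.symm
    have h := trdeg_add_eq k L (A := K)
    rw [hLK, hr] at h
    obtain ⟨n, hn⟩ := Cardinal.lt_aleph0.mp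
      ((self_le_add_right (Algebra.trdeg k L) 1).trans_lt (h.symm ▸ Cardinal.natCast_lt_aleph0))
    rw [hn] at h ⊢
    have : n + 1 = r + 1 := by exact_mod_cast h
    exact_mod_cast (by omega : n = r)
  -- the equation
  set ψ : L[X] →+* K := (aeval t : L[X] →ₐ[L] K).toRingHom with hψ
  have hψinj : Function.Injective ψ :=
    (injective_iff_map_eq_zero _).mpr fun p hp => transcendental_iff.mp hTt p hp
  set m := (minpoly F₂ y₀).map (algebraMap F₂ K) with hm
  have hy₀i : IsIntegral F₂ y₀ := Algebra.IsIntegral.isIntegral y₀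
  have hmm : m.Monic := (minpoly.monic hy₀i).map _
  have hcoef : ∀ i, ∃ p q : L[X], q ≠ 0 ∧ m.coeff i * ψ q = ψ p := by
    intro i
    obtain ⟨p, q, hpq⟩ := (IntermediateField.mem_adjoin_simple_iff L _).mp ((minpoly F₂ y₀).coeff i).2
    rcases eq_or_ne q 0 with rfl | hq
    · exact ⟨0, 1, one_ne_zero, by simp [hm, coeff_map, IntermediateField.algebraMap_apply, hpq]⟩
    · refine ⟨p, q, hq, ?_⟩
      rw [hm, coeff_map, IntermediateField.algebraMap_apply, hpq]
      exact div_mul_cancel₀ _ ((map_ne_zero_iff ψ hψinj).mpr hq)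
  choose p q hq hpq using hcoef
  set D := m.natDegree with hD
  set d : L[X] := ∏ i ∈ Finset.range D, q i with hd
  have hd0 : d ≠ 0 := Finset.prod_ne_zero_iff.mpr fun i _ => hq i
  set y : K := ψ d * y₀ with hy
  set G := m.scaleRoots (ψ d) with hG
  have hGm : G.Monic := (monic_scaleRoots_iff _).mpr hmm
  have hGl : G ∈ lifts ψ := (lifts_iff_coeff_lifts _).mpr fun i => by
    rw [hG, coeff_scaleRoots]
    rcases lt_trichotomy i D with hi | hi | hi
    · refine ⟨p i * (∏ j ∈ (Finset.range D).erase i, q j) * d ^ (D - i - 1), ?_⟩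
      rw [map_mul, map_mul, map_pow, ← hpq, mul_assoc (m.coeff i), ← map_mul,
        Finset.mul_prod_erase _ _ (Finset.mem_range.mpr hi), ← hd, mul_assoc, ← pow_succ']
      congr 2
      omega
    · exact ⟨1, by rw [hi, hD, hmm.coeff_natDegree, Nat.sub_self, pow_zero, map_one, one_mul]⟩
    · exact ⟨0, by rw [coeff_eq_zero_of_natDegree_lt hi, map_zero, zero_mul]⟩
  obtain ⟨F, hFG, hFd, hFm⟩ := lifts_and_natDegree_eq_and_monic hGl hGm
  have hFy : eval₂ ψ y F = 0 := by
    rw [← eval_map, hFG, hG, hy]
    exact scaleRoots_eval₂_eq_zero (p := m) (RingHom.id K) (r := y₀)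
      (by rw [hm, eval₂_map, RingHom.id_comp, ← aeval_def]; exact minpoly.aeval F₂ y₀)
  have hψd : ψ d ≠ 0 := (map_ne_zero_iff ψ hψinj).mpr hd0
  have hψmem : ∀ g : L[X], ψ g ∈ F₂ := fun g =>
    IntermediateField.algebra_adjoin_le_adjoin L _ (aeval_mem_adjoin_singleton L t)
  have hyprim : F₂⟮y⟯ = ⊤ := by
    refine top_le_iff.mp (hy₀ ▸ ?_)
    rw [IntermediateField.adjoin_simple_le_iff]
    have h : y₀ = algebraMap F₂ K (⟨ψ d, hψmem d⟩⁻¹ : F₂) * y := by
      rw [hy, map_inv₀]
      exact (inv_mul_cancel_left₀ hψd _).symm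
    rw [h]
    exact mul_mem (IntermediateField.algebraMap_mem _ _) (IntermediateField.mem_adjoin_simple_self _ y)
  have hyi : IsIntegral F₂ y := Algebra.IsIntegral.isIntegral y
  have hdeg : F.natDegree = (minpoly F₂ y).natDegree := by
    rw [← IntermediateField.adjoin.finrank hyi, hyprim, ← hy₀, IntermediateField.adjoin.finrank hy₀i,
      hFd, hG, natDegree_scaleRoots, hm, natDegree_map]
  let e₂ : L[X] →+* F₂ := ψ.codRestrict F₂ hψmem
  have hmin : ∀ G : L[X][X], G.degree < F.degree → eval₂ ψ y G = 0 → G = 0 := by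
    intro G hGd hGy
    have h : G.map e₂ = 0 := by
      by_contra h0
      have h1 : (minpoly F₂ y).degree ≤ (G.map e₂).degree := by
        refine minpoly.degree_le_of_ne_zero F₂ y h0 ?_
        rw [aeval_def, eval₂_map]
        exact hGy
      have h2 : F.degree ≤ (G.map e₂).degree := by
        rwa [degree_eq_natDegree hFm.ne_zero, hdeg, ← degree_eq_natDegree (minpoly.ne_zero hyi)]
      exact absurd (h2.trans degree_map_le) (not_le.mpr hGd)
    exact Polynomial.map_injective e₂ (fun a b hab => hψinj (congrArg Subtype.val hab)) (h.trans (Polynomial.map_zero _).symm)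
  have hden : ∀ z : K, ∃ g : L[X], g ≠ 0 ∧ z * ψ g ∈ Algebra.adjoin L {t, y} := by
    intro z
    have hz : z ∈ Algebra.adjoin F₂ ({y} : Set K) := by
      rw [← IntermediateField.adjoin_simple_toSubalgebra_of_isAlgebraic hyi.isAlgebraic, hyprim]; trivial
    have hψA : ∀ g : L[X], ψ g ∈ Algebra.adjoin L {t, y} := fun g =>
      Algebra.adjoin_mono (by simp) (aeval_mem_adjoin_singleton L t)
    induction hz using Algebra.adjoin_induction with
    | mem x hx =>
      exact ⟨1, one_ne_zero, by rw [map_one, mul_one]; exact Algebra.subset_adjoin (Or.inr hx)⟩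
    | algebraMap c =>
      obtain ⟨a, b, hab⟩ := (IntermediateField.mem_adjoin_simple_iff L _).mp c.2
      rcases eq_or_ne b 0 with rfl | hb
      · exact ⟨1, one_ne_zero, by simp [IntermediateField.algebraMap_apply, hab]⟩
      · refine ⟨b, hb, ?_⟩
        rw [IntermediateField.algebraMap_apply, hab]
        rw [show aeval t a / aeval t b * ψ b = ψ a from
          div_mul_cancel₀ _ ((map_ne_zero_iff ψ hψinj).mpr hb)]
        exact hψA a
    | add a b _ _ ha hb =>
      obtain ⟨g₁, h1, h1'⟩ := ha
      obtain ⟨g₂, h2, h2'⟩ := hb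
      refine ⟨g₁ * g₂, mul_ne_zero h1 h2, ?_⟩
      rw [map_mul, show (a + b) * (ψ g₁ * ψ g₂) = (a * ψ g₁) * ψ g₂ + (b * ψ g₂) * ψ g₁ by ring]
      exact add_mem (mul_mem h1' (hψA _)) (mul_mem h2' (hψA _))
    | mul a b _ _ ha hb =>
      obtain ⟨g₁, h1, h1'⟩ := ha
      obtain ⟨g₂, h2, h2'⟩ := hb
      refine ⟨g₁ * g₂, mul_ne_zero h1 h2, ?_⟩
      rw [map_mul, show (a * b) * (ψ g₁ * ψ g₂) = (a * ψ g₁) * (b * ψ g₂) by ring]
      exact mul_mem h1' h2'
  refine ⟨L, t, y, F, hLfg, htrd, hTt, hFm, hFy, hmin, hden, ?_⟩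
  -- absolute irreducibility
  let Ω := AlgebraicClosure K
  let ι : K →ₐ[L] Ω := IsScalarTower.toAlgHom L K Ω
  have hrange : ι.fieldRange = IntermediateField.adjoin L ({ι t, ι y} : Set Ω) := by
    have htop : IntermediateField.adjoin L ({t, y} : Set K) = ⊤ := by
      rw [← IntermediateField.adjoin_simple_adjoin_simple, ← hF₂, hyprim, IntermediateField.restrictScalars_top]
    rw [AlgHom.fieldRange_eq_map, ← htop, IntermediateField.adjoin_map, Set.image_insert_eq, Set.image_singleton]
  have hF₂map : F₂.map ι = L⟮ι t⟯ := by rw [hF₂, IntermediateField.adjoin_map, Set.image_singleton]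
  let e : F₂ ≃ₐ[L] L⟮ι t⟯ := (IntermediateField.equivMap F₂ ι).trans (IntermediateField.equivOfEq hF₂map)
  have he : (algebraMap L⟮ι t⟯ Ω).comp e.toRingEquiv.toRingHom = ι.toRingHom.comp (algebraMap F₂ K) :=
    RingHom.ext fun _ => rfl
  set me := (minpoly F₂ y).map e.toRingEquiv.toRingHom with hme
  have hmey : aeval (ι y) me = 0 := by
    rw [aeval_def, hme, eval₂_map, he, show eval₂ (ι.toRingHom.comp (algebraMap F₂ K)) (ι y) (minpoly F₂ y) =
      ι.toRingHom (eval₂ (algebraMap F₂ K) y (minpoly F₂ y)) from (hom_eval₂ _ _ ι.toRingHom y).symm,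
      ← aeval_def, minpoly.aeval, map_zero]
  have hmei : Irreducible me :=
    (MulEquiv.irreducible_iff (Polynomial.mapEquiv e.toRingEquiv).toMulEquiv).mpr (minpoly.irreducible hyi)
  have hmin' : me = minpoly L⟮ι t⟯ (ι y) :=
    minpoly.eq_of_irreducible_of_monic hmei hmey ((minpoly.monic hyi).map _)
  refine irreducible_map_of_closed (T := ι t) (y := ι y) ι.fieldRange ?_ ?_ hrange ?_ hFm ?_ ?_ (AlgebraicClosure L)
  · rintro _ ⟨z, rfl⟩ hz
    refine ⟨⟨z, hclosed z ((isAlgebraic_algHom_iff ι ι.injective).mp hz)⟩, ?_⟩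
    exact ι.commutes _ |>.symm.trans (by rfl)
  · exact (transcendental_iff).mpr fun g hg => transcendental_iff.mp hTt g
      ((map_eq_zero_iff ι ι.injective).mp ((aeval_algHom_apply ι t g).symm.trans hg))
  · show (minpoly L⟮ι t⟯ (ι y)).Separable
    rw [← hmin', hme]
    exact Polynomial.Separable.map (Algebra.IsSeparable.isSeparable F₂ y)
  · have h := congrArg ι.toRingHom hFy
    rw [map_zero, hom_eval₂] at h
    rw [show (aeval (ι t) : L[X] →ₐ[L] Ω).toRingHom = ι.toRingHom.comp ψ from
      RingHom.ext fun g => aeval_algHom_apply ι t g]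
    exact h
  · rw [← hmin', hme, natDegree_map, hdeg]

end Groth.Agent.LangWeilWeak
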