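import Groth.Agent.LangWeilWeak.Step
import Groth.Agent.LangWeilWeak.Prepare

/-!
# Weak Lang–Weil: finitely generated domains over finite fields have enough points
-/

set_option autoImplicit false
set_option linter.style.haveILetI false
set_option backward.isDefEq.respectTransparency false

noncomputable section

namespace Groth.Agent.LangWeilWeak

open Polynomial
open scoped IntermediateField

universe u

/-- The algebraic closures of a fraction field and of the standard one agree. -/
theorem irreducible_fractionRing {B : Type u} [CommRing B] [IsDomain B] {L : Type u} [Field L]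
    [Algebra B L] [IsFractionRing B L] (F : B[X][X])
    (h : Irreducible (F.map (mapRingHom ((algebraMap L (AlgebraicClosure L)).comp (algebraMap B L))))) :
    Irreducible (F.map (mapRingHom (algebraMap B (AlgebraicClosure (FractionRing B))))) := by
  let θ : FractionRing B ≃ₐ[B] L := FractionRing.algEquiv B L
  let e : AlgebraicClosure (FractionRing B) ≃+* AlgebraicClosure L :=
    IsAlgClosure.equivOfEquiv (AlgebraicClosure (FractionRing B)) (AlgebraicClosure L) θ.toRingEquiv
  have he : e.toRingHom.comp (algebraMap B (AlgebraicClosure (FractionRing B))) =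
      (algebraMap L (AlgebraicClosure L)).comp (algebraMap B L) := RingHom.ext fun x => by
    show e (algebraMap B (AlgebraicClosure (FractionRing B)) x) = _
    rw [IsScalarTower.algebraMap_apply B (FractionRing B) (AlgebraicClosure (FractionRing B)),
      IsAlgClosure.equivOfEquiv_algebraMap]
    exact congrArg _ (θ.commutes x)
  rw [← he, ← mapRingHom_comp, ← Polynomial.map_map] at h
  exact (MulEquiv.irreducible_iff (Polynomial.mapEquiv (Polynomial.mapEquiv e)).toMulEquiv).mp h

/-- **Weak Lang–Weil.** A finitely generated domain of transcendence degree `r` over a finite field has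
`≫ Q ^ r` points in the fields of order `Q`, for suitable `Q`. -/
theorem goodCount_of_fg : ∀ (r : ℕ) (k : Type u) [Field k] [Finite k] (K : Type u) [Field K] [Algebra k K]
    [Algebra.EssFiniteType k K], Algebra.trdeg k K = (r : Cardinal) →
    ∀ A : Subalgebra k K, A.FG → IntermediateField.adjoin k (A : Set K) = ⊤ → GoodCount k A r := by
  intro r
  induction r with
  | zero =>
    intro k _ _ K _ _ _ htr A hA _
    haveI : Algebra.IsAlgebraic k K := trdeg_eq_zero_iff.mp (by simpa using htr)
    haveI : FiniteDimensional k K := Algebra.finite_of_essFiniteType_of_isAlgebraic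
    haveI : Algebra.FiniteType k A := A.fg_iff_finiteType.mp hA
    refine ⟨Module.finrank k K, Module.finrank_pos, 1, one_pos, 0, fun j _ Fq _ _ _ hFq => ?_⟩
    obtain ⟨σ⟩ := nonempty_algHom_finite (k := k) (K := K) (Fq := Fq) (hFq ▸ dvd_mul_right _ _)
    haveI := finite_algHom (k := k) A Fq
    haveI : Nonempty (A →ₐ[k] Fq) := ⟨σ.comp A.val⟩
    have : 1 ≤ Nat.card (A →ₐ[k] Fq) := Nat.card_pos
    simpa using (Nat.one_le_cast (α := ℝ)).mpr this
  | succ r ih =>
    intro k _ _ K _ _ _ htr A hA hAK
    classical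
    obtain ⟨L, T, y, F, hLfg, hLtr, hT, hFm, hFy, hmin, hden, hirr⟩ := exists_fibration k K htr
    haveI := hLfg
    set ψ : L[X] →+* K := (aeval T : L[X] →ₐ[L] K).toRingHom with hψ
    have hψinj : Function.Injective ψ :=
      (injective_iff_map_eq_zero _).mpr fun p hp => transcendental_iff.mp hT p hp
    -- generators of `L`
    obtain ⟨sL, hsL⟩ := (IntermediateField.fg_top k L)
    -- denominators for `sL ∪ {T, y}`
    set gs : Finset K := insert T (insert y (sL.image L.val)) with hgs
    choose a haA b hbA hb0 hab using fun g : K => exists_div_of_adjoin_eq_top hAK g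
    obtain ⟨gA, hgA⟩ := hA
    set bb : K := ∏ g ∈ gs, b g with hbb
    have hbbA : bb ∈ A := prod_mem fun g _ => hbA g
    have hbb0 : bb ≠ 0 := Finset.prod_ne_zero_iff.mpr fun g _ => hb0 g
    have hbg : ∀ g ∈ gs, bb * g ∈ A := by
      intro g hg
      rw [hbb, ← Finset.mul_prod_erase _ _ hg, mul_comm (b g), mul_assoc, hab]
      exact mul_mem (prod_mem fun g _ => hbA g) (haA g)
    -- the common denominator in `L[T]`
    set E : Finset K := insert bb⁻¹ gA with hE
    choose q hq0 hq using hden
    set H : L[X] := ∏ z ∈ E, q z with hH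
    have hH0 : H ≠ 0 := Finset.prod_ne_zero_iff.mpr fun z _ => hq0 z
    have hψH : ψ H ≠ 0 := (map_ne_zero_iff ψ hψinj).mpr hH0
    -- finitely many constants
    have hEmem : ∀ z ∈ E, z ∈ Algebra.adjoin k (Set.range L.val ∪ {T, y, (ψ H)⁻¹}) := by
      intro z hz
      set W := Algebra.adjoin k (Set.range L.val ∪ {T, y, (ψ H)⁻¹})
      have hL : ∀ l : L, (l : K) ∈ W := fun l => Algebra.subset_adjoin (Or.inl ⟨l, rfl⟩)
      have hTy : ∀ w ∈ Algebra.adjoin L ({T, y} : Set K), w ∈ W := by
        intro w hw
        induction hw using Algebra.adjoin_induction with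
        | mem x hx =>
          refine Algebra.subset_adjoin (Or.inr ?_)
          rcases hx with rfl | hx
          · exact Or.inl rfl
          · exact Or.inr (Or.inl hx)
        | algebraMap l => exact hL l
        | add _ _ _ _ hx hy => exact add_mem hx hy
        | mul _ _ _ _ hx hy => exact mul_mem hx hy
      have hψW : ∀ g : L[X], ψ g ∈ W := fun g =>
        hTy _ (Algebra.adjoin_mono (by simp) (aeval_mem_adjoin_singleton L T))
      have : z = (z * ψ (q z)) * ψ (∏ w ∈ E.erase z, q w) * (ψ H)⁻¹ := by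
        rw [mul_assoc z, ← map_mul, Finset.mul_prod_erase _ _ hz, ← hH, mul_inv_cancel_right₀ hψH]
      rw [this]
      exact mul_mem (mul_mem (hTy _ (hq z)) (hψW _)) (Algebra.subset_adjoin (by simp))
    choose tz htz htz' using fun z (hz : z ∈ E) => exists_finset_of_mem_algebraAdjoin (hEmem z hz)
    set cL : Finset L := (F.support.biUnion fun i => (F.coeff i).support.image fun j => (F.coeff i).coeff j) ∪
      (H.support.image fun j => H.coeff j) ∪
      (E.attach.biUnion fun z => (tz z.1 z.2).preimage L.val (L.val.injective.injOn)) with hcL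
    -- the subalgebra of constants
    set B₀ : Subalgebra k L := Algebra.adjoin k ((sL : Set L) ∪ (cL : Set L)) with hB₀
    have hsL' : ∀ l ∈ sL, l ∈ B₀ := fun l hl => Algebra.subset_adjoin (Or.inl hl)
    have hcL' : ∀ l ∈ cL, l ∈ B₀ := fun l hl => Algebra.subset_adjoin (Or.inr hl)
    have hB₀L : IntermediateField.adjoin k (B₀ : Set L) = ⊤ :=
      top_le_iff.mp (hsL ▸ IntermediateField.adjoin.mono k _ _ fun l hl => hsL' l hl)
    have hFcoef : ∀ i j, (F.coeff i).coeff j ∈ B₀ := by
      intro i j
      by_cases hj : (F.coeff i).coeff j = 0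
      · rw [hj]; exact zero_mem _
      · refine hcL' _ (Finset.mem_union_left _ (Finset.mem_union_left _ ?_))
        refine Finset.mem_biUnion.mpr ⟨i, ?_, Finset.mem_image.mpr ⟨j, mem_support_iff.mpr hj, rfl⟩⟩
        exact mem_support_iff.mpr fun h => hj (by simp [h])
    have hHcoef : ∀ j, H.coeff j ∈ B₀ := by
      intro j
      by_cases hj : H.coeff j = 0
      · rw [hj]; exact zero_mem _
      · exact hcL' _ (Finset.mem_union_left _ (Finset.mem_union_right _
          (Finset.mem_image.mpr ⟨j, mem_support_iff.mpr hj, rfl⟩)))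
    -- lifts to `B₀`
    obtain ⟨H₀, hH₀⟩ : ∃ H₀ : B₀[X], H₀.map (algebraMap B₀ L) = H := by
      have : H ∈ lifts (algebraMap B₀ L) := (lifts_iff_coeff_lifts _).mpr fun j => ⟨⟨_, hHcoef j⟩, rfl⟩
      exact (mem_lifts H).mp this
    obtain ⟨F₀, hF₀, hF₀d, hF₀m⟩ : ∃ F₀ : B₀[X][X], F₀.map (mapRingHom (algebraMap B₀ L)) = F ∧
        F₀.natDegree = F.natDegree ∧ F₀.Monic := by
      refine lifts_and_natDegree_eq_and_monic ((lifts_iff_coeff_lifts _).mpr fun i => ?_) hFm
      have : F.coeff i ∈ lifts (algebraMap B₀ L) := (lifts_iff_coeff_lifts _).mpr fun j => ⟨⟨_, hFcoef i j⟩, rfl⟩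
      exact (mem_lifts _).mp this
    haveI : IsFractionRing B₀ L := by
      refine IsFractionRing.of_field B₀ L fun z => ?_
      obtain ⟨a, ha, b, hb, hb0, hab⟩ := exists_div_of_adjoin_eq_top hB₀L z
      refine ⟨⟨a, ha⟩, ⟨b, hb⟩, ?_⟩
      show z = a / b
      rw [← hab]; exact (mul_div_cancel_left₀ _ hb0).symm
    -- specialisations stay irreducible
    obtain ⟨f, hf0, hf⟩ : ∃ f : B₀, f ≠ 0 ∧ ∀ (κ : Type u) [Field κ] (φ : B₀ →+* κ), φ f ≠ 0 →
        Irreducible (F₀.map (mapRingHom φ)) := by
      refine exists_irreducible_specializations F₀ ?_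
      refine irreducible_fractionRing (L := L) F₀ ?_
      rw [← hF₀, Polynomial.map_map, mapRingHom_comp] at hirr
      exact hirr
    obtain ⟨n₀, hn₀⟩ : ∃ n, H₀.coeff n ≠ 0 := by
      by_contra! hall
      exact hH0 (by rw [← hH₀, show H₀ = 0 from Polynomial.ext fun n => by simpa using hall n, Polynomial.map_zero])
    -- denominators of the new constants
    have hsLL : IntermediateField.adjoin k ((Algebra.adjoin k (sL : Set L)) : Set L) = ⊤ :=
      top_le_iff.mp (hsL ▸ IntermediateField.adjoin.mono k _ _ Algebra.subset_adjoin)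
    choose aL haL bL hbL hbL0 habL using fun l : L => exists_div_of_adjoin_eq_top hsLL l
    have hadj : Algebra.adjoin k (sL : Set L) ≤ B₀ := Algebra.adjoin_mono Set.subset_union_left
    set u : L := ((f : L) * (H₀.coeff n₀ : L)) * ∏ l ∈ cL, bL l with hu
    have hu0 : u ≠ 0 := by
      refine mul_ne_zero (mul_ne_zero ?_ ?_) (Finset.prod_ne_zero_iff.mpr fun l _ => hbL0 l)
      · exact fun h => hf0 (Subtype.ext h)
      · exact fun h => hn₀ (Subtype.ext h)
    have huB₀ : u ∈ B₀ := mul_mem (mul_mem f.2 (H₀.coeff n₀).2) (prod_mem fun l _ => hadj (hbL l))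
    set B : Subalgebra k L := Algebra.adjoin k (((sL : Set L) ∪ (cL : Set L)) ∪ {u⁻¹}) with hB
    have hBfg : B.FG := by
      refine Subalgebra.fg_def.mpr ⟨_, ?_, rfl⟩
      exact ((sL.finite_toSet.union cL.finite_toSet).union (Set.finite_singleton _))
    have hB₀B : B₀ ≤ B := Algebra.adjoin_mono Set.subset_union_left
    have hBL : IntermediateField.adjoin k (B : Set L) = ⊤ :=
      top_le_iff.mp (hB₀L ▸ IntermediateField.adjoin.mono k _ _ hB₀B)
    haveI : Algebra.FiniteType k B := B.fg_iff_finiteType.mp hBfg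
    let inc : B₀ →+* B := (Subalgebra.inclusion hB₀B).toRingHom
    have hunit : ∀ (κ : Type u) [Field κ] (φ : B →+* κ), φ (inc f) ≠ 0 ∧ φ (inc (H₀.coeff n₀)) ≠ 0 := by
      intro κ _ φ
      have hiu : (⟨u, hB₀B huB₀⟩ : B) * ⟨u⁻¹, Algebra.subset_adjoin (Or.inr rfl)⟩ = 1 :=
        Subtype.ext (mul_inv_cancel₀ hu0)
      have h1 : φ ⟨u, hB₀B huB₀⟩ ≠ 0 := fun h0 => by
        have := congrArg φ hiu
        rw [map_mul, h0, zero_mul, map_one] at this
        exact zero_ne_one this
      have h2 : (⟨u, hB₀B huB₀⟩ : B) = inc f * inc (H₀.coeff n₀) *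
          ⟨∏ l ∈ cL, bL l, hB₀B (prod_mem fun l _ => hadj (hbL l))⟩ := Subtype.ext rfl
      rw [h2, map_mul, map_mul] at h1
      exact ⟨left_ne_zero_of_mul (left_ne_zero_of_mul h1), right_ne_zero_of_mul (left_ne_zero_of_mul h1)⟩
    set FB : B[X][X] := F₀.map (mapRingHom inc) with hFB
    set HB : B[X] := H₀.map inc with hHB
    have hFBm : FB.Monic := hF₀m.map _
    have hstep : GoodCount k (Localization.Away (AdjoinRoot.of FB HB)) (r + 1) := by
      refine goodCount_step hFBm (fun Ω _ φ _ => ?_) (fun κ _ φ h0 => ?_) (ih k L hLtr B hBfg hBL)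
      · rw [hFB, Polynomial.map_map, mapRingHom_comp]
        exact hf Ω (φ.comp inc) (hunit Ω φ).1
      · have h := congrArg (fun g => g.coeff n₀) h0
        rw [hHB, Polynomial.map_map] at h
        simp only [coeff_map, coeff_zero] at h
        exact (hunit κ φ).2 h
    -- into `K`
    let v : B[X] →+* K := ψ.comp (mapRingHom (algebraMap B L))
    have hFBL : FB.map (mapRingHom (algebraMap B L)) = F := by
      rw [hFB, Polynomial.map_map, mapRingHom_comp, ← hF₀]
      rfl
    have hFBy : eval₂ v y FB = 0 := by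
      rw [← eval₂_map, hFBL]; exact hFy
    let g : AdjoinRoot FB →+* K := AdjoinRoot.lift v y hFBy
    have hg : Function.Injective g := by
      rw [injective_iff_map_eq_zero]
      intro z hz
      obtain ⟨P, rfl⟩ := AdjoinRoot.mk_surjective z
      rw [AdjoinRoot.lift_mk] at hz
      have h1 : AdjoinRoot.mk FB P = AdjoinRoot.mk FB (P %ₘ FB) := by
        rw [AdjoinRoot.mk_eq_mk]
        exact ⟨P /ₘ FB, by linear_combination -(modByMonic_add_div P FB)⟩
      rw [h1]
      have h2 : eval₂ v y (P %ₘ FB) = 0 := by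
        have h := congrArg (eval₂ v y) (modByMonic_add_div P FB)
        rwa [eval₂_add, eval₂_mul, hFBy, zero_mul, add_zero, hz] at h
      have h3 : (P %ₘ FB).map (mapRingHom (algebraMap B L)) = 0 := by
        refine hmin _ ?_ (by rw [eval₂_map]; exact h2)
        rw [← hFBL, hFBm.degree_map]
        exact degree_map_le.trans_lt (degree_modByMonic_lt P hFBm)
      have h4 : P %ₘ FB = 0 := Polynomial.map_injective _
        (Polynomial.map_injective _ Subtype.val_injective) (h3.trans (Polynomial.map_zero _).symm)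
      rw [h4, map_zero]
    haveI : IsDomain (AdjoinRoot FB) := hg.isDomain g
    have hgH : g (AdjoinRoot.of FB HB) = ψ H := by
      rw [AdjoinRoot.lift_of]
      show ψ (HB.map (algebraMap B L)) = ψ H
      rw [hHB, Polynomial.map_map, ← hH₀]
      rfl
    have hgHu : IsUnit (g (AdjoinRoot.of FB HB)) := hgH ▸ Ne.isUnit hψH
    set S := Localization.Away (AdjoinRoot.of FB HB)
    let Θ : S →ₐ[k] K :=
      { IsLocalization.Away.lift (AdjoinRoot.of FB HB) hgHu with
        commutes' := fun a => by
          show IsLocalization.Away.lift (AdjoinRoot.of FB HB) hgHu (algebraMap k S a) = _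
          rw [IsScalarTower.algebraMap_apply k (AdjoinRoot FB) S, IsLocalization.Away.lift_eq]
          show g (algebraMap k (AdjoinRoot FB) a) = _
          rw [IsScalarTower.algebraMap_apply k B[X] (AdjoinRoot FB), AdjoinRoot.algebraMap_eq,
            AdjoinRoot.lift_of, IsScalarTower.algebraMap_apply k B B[X], Polynomial.algebraMap_eq]
          show ψ ((C (algebraMap k B a)).map (algebraMap B L)) = _
          rw [Polynomial.map_C]
          show aeval T (C _) = _
          rw [aeval_C]
          rfl }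
    have hΘ : Function.Injective Θ := by
      show Function.Injective (IsLocalization.Away.lift (AdjoinRoot.of FB HB) hgHu)
      exact (IsLocalization.lift_injective_iff _).mpr fun x y' =>
        ⟨fun h => congrArg g (IsLocalization.injective S (M := Submonoid.powers (AdjoinRoot.of FB HB))
          (le_nonZeroDivisors_of_noZeroDivisors (by
            rintro ⟨n, hn⟩
            have := congrArg g hn
            rw [map_pow, map_zero, hgH] at this
            exact pow_ne_zero _ hψH this)) h), fun h => by rw [hg h]⟩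
    -- its range contains `A`
    have hΘg : ∀ z : AdjoinRoot FB, Θ (algebraMap _ S z) = g z := fun z =>
      IsLocalization.Away.lift_eq _ hgHu z
    have hrB : ∀ l ∈ B, (l : K) ∈ Θ.range := fun l hl => ⟨algebraMap _ S (AdjoinRoot.of FB (C ⟨l, hl⟩)), by
      show Θ _ = _
      rw [hΘg, AdjoinRoot.lift_of]
      show ψ ((C (⟨l, hl⟩ : B)).map (algebraMap B L)) = _
      rw [Polynomial.map_C]
      exact aeval_C T _⟩
    have hrT : T ∈ Θ.range := ⟨algebraMap _ S (AdjoinRoot.of FB X), by
      show Θ _ = _
      rw [hΘg, AdjoinRoot.lift_of]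
      show ψ (X.map (algebraMap B L)) = _
      rw [Polynomial.map_X]
      exact aeval_X T⟩
    have hry : y ∈ Θ.range := ⟨algebraMap _ S (AdjoinRoot.root FB), by
      show Θ _ = _
      rw [hΘg, AdjoinRoot.lift_root]⟩
    have hrH : (ψ H)⁻¹ ∈ Θ.range := ⟨IsLocalization.Away.invSelf (AdjoinRoot.of FB HB), by
      refine eq_inv_of_mul_eq_one_left ?_
      show Θ _ * ψ H = 1
      rw [← hgH, ← hΘg, ← map_mul, mul_comm, IsLocalization.Away.mul_invSelf, map_one]⟩
    have hEr : ∀ z ∈ E, z ∈ Θ.range := by
      intro z hz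
      refine Algebra.adjoin_le (fun w hw => ?_) (htz' z hz)
      rcases htz z hz hw with ⟨l, rfl⟩ | hw'
      · exact hrB l (hB₀B (hcL' l (Finset.mem_union_right _ (Finset.mem_biUnion.mpr
          ⟨⟨z, hz⟩, Finset.mem_attach _ _, Finset.mem_preimage.mpr hw⟩))))
      · rcases hw' with rfl | rfl | rfl
        exacts [hrT, hry, hrH]
    have hAr : A ≤ Θ.range := hgA ▸ Algebra.adjoin_le fun z hz => hEr z (Finset.mem_insert_of_mem hz)
    let j : A →ₐ[k] S := (AlgEquiv.ofInjective Θ hΘ).symm.toAlgHom.comp (Subalgebra.inclusion hAr)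
    have hj : ∀ z : A, Θ (j z) = z := fun z =>
      congrArg Subtype.val ((AlgEquiv.ofInjective Θ hΘ).apply_symm_apply (Subalgebra.inclusion hAr z))
    -- restriction is injective
    obtain ⟨e₀, he₀, c, hc, N, hN⟩ := hstep
    refine ⟨e₀, he₀, c, hc, N, fun i hi Fq _ _ _ hFq => (hN i hi Fq hFq).trans ?_⟩
    haveI : Algebra.FiniteType k A := A.fg_iff_finiteType.mp ⟨gA, hgA⟩
    haveI := finite_algHom (k := k) A Fq
    refine Nat.cast_le.mpr (Nat.card_le_card_of_injective (fun φ => φ.comp j) fun φ φ' hφ => ?_)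
    set Det : Subalgebra k S := AlgHom.equalizer φ φ'
    have hinv : ∀ x y' : S, x ∈ Det → x * y' = 1 → y' ∈ Det := by
      intro x y' hx hxy
      show φ y' = φ' y'
      have h1 := congrArg φ hxy
      have h2 := congrArg φ' hxy
      rw [map_mul, map_one] at h1 h2
      rw [show φ' x = φ x from hx.symm] at h2
      exact mul_left_cancel₀ (left_ne_zero_of_mul_eq_one h1) (h1.trans h2.symm)
    have hmemD : ∀ w : S, (∃ z : A, Θ w = z) → w ∈ Det := by
      rintro w ⟨z, hz⟩
      rw [show w = j z from hΘ (hz.trans (hj z).symm)]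
      exact DFunLike.congr_fun hφ z
    obtain ⟨β, hβ : Θ β = bb⁻¹⟩ := hEr bb⁻¹ (Finset.mem_insert_self _ _)
    have hβD : β ∈ Det := by
      refine hinv (j ⟨bb, hbbA⟩) β (hmemD _ ⟨_, hj _⟩) (hΘ ?_)
      rw [map_mul, hj, hβ, map_one]
      exact mul_inv_cancel₀ hbb0
    have hgD : ∀ w : S, Θ w ∈ gs → w ∈ Det := by
      intro w hw
      have : w = j ⟨bb * Θ w, hbg _ hw⟩ * β := hΘ (by
        rw [map_mul, hj, hβ]
        show Θ w = bb * Θ w * bb⁻¹
        field_simp)
      rw [this]
      exact mul_mem (hmemD _ ⟨_, hj _⟩) hβD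
    let cB : B →ₐ[k] S :=
      (IsScalarTower.toAlgHom k B S)
    have hcB : ∀ l : B, Θ (cB l) = (l : L) := fun l => by
      show Θ (algebraMap B S l) = _
      rw [IsScalarTower.algebraMap_apply B (AdjoinRoot FB) S, hΘg,
        IsScalarTower.algebraMap_apply B B[X] (AdjoinRoot FB), AdjoinRoot.algebraMap_eq, AdjoinRoot.lift_of,
        Polynomial.algebraMap_eq]
      show ψ ((C l).map (algebraMap B L)) = _
      rw [Polynomial.map_C]
      exact aeval_C T _
    set D₀ : Subalgebra k L := ((Det.comap cB).map B.val) with hD₀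
    have hsD : ∀ l ∈ sL, l ∈ D₀ := fun l hl =>
      ⟨⟨l, hB₀B (hsL' l hl)⟩, hgD _ (by
        show Θ (cB _) ∈ gs
        rw [hcB]
        exact Finset.mem_insert_of_mem (Finset.mem_insert_of_mem (Finset.mem_image_of_mem _ hl))), rfl⟩
    have hinvD : ∀ x y' : L, x ∈ D₀ → x * y' = 1 → y' ∈ B → y' ∈ D₀ := by
      rintro _ y' ⟨x, hx, rfl⟩ hxy hy'
      exact ⟨⟨y', hy'⟩, hinv _ (cB ⟨y', hy'⟩) hx (by
        show cB x * cB ⟨y', hy'⟩ = 1
        rw [← map_mul, show x * ⟨y', hy'⟩ = 1 from Subtype.ext hxy, map_one]), rfl⟩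
    have hcD : ∀ l ∈ cL, l ∈ D₀ := by
      intro l hl
      have hsub : ∀ w ∈ Algebra.adjoin k (sL : Set L), w ∈ D₀ := fun w hw => Algebra.adjoin_le hsD hw
      set o := ((f : L) * (H₀.coeff n₀ : L)) * ∏ l' ∈ cL.erase l, bL l'
      have hoB : o * u⁻¹ ∈ B := mul_mem (hB₀B (mul_mem (mul_mem f.2 (H₀.coeff n₀).2)
        (prod_mem fun l' _ => hadj (hbL l')))) (Algebra.subset_adjoin (Or.inr rfl))
      have hone : bL l * (o * u⁻¹) = 1 := by
        rw [← mul_assoc, show bL l * o = u by
          rw [hu, ← Finset.mul_prod_erase _ _ hl]; ring, mul_inv_cancel₀ hu0]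
      have hinvm : o * u⁻¹ ∈ D₀ := hinvD _ _ (hsub _ (hbL l)) hone hoB
      have : l = aL l * (o * u⁻¹) := by
        rw [← habL l, mul_comm (bL l) l, mul_assoc, hone, mul_one]
      rw [this]
      exact mul_mem (hsub _ (haL l)) hinvm
    have hB₀D : B₀ ≤ D₀ := Algebra.adjoin_le (by rintro l (hl | hl); exacts [hsD l hl, hcD l hl])
    have hBD : B ≤ D₀ := Algebra.adjoin_le (by
      rintro l (hl | hl)
      · exact hB₀D (Algebra.subset_adjoin hl)
      · rw [hl]
        exact hinvD u _ (hB₀D huB₀) (mul_inv_cancel₀ hu0) (Algebra.subset_adjoin (Or.inr rfl)))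
    have hCD : ∀ l : B, cB l ∈ Det := by
      intro l
      obtain ⟨l', hl', hll⟩ := hBD l.2
      rwa [Subtype.ext hll] at hl'
    -- `S` is generated by `B`, `T`, `y` and the inverse of `H`
    have hR : ∀ z : AdjoinRoot FB, algebraMap _ S z ∈ Det := by
      intro z
      obtain ⟨P, rfl⟩ := AdjoinRoot.mk_surjective z
      induction P using Polynomial.induction_on' with
      | add p p' hp hp' => rw [map_add, map_add]; exact add_mem hp hp'
      | monomial n p =>
        rw [← C_mul_X_pow_eq_monomial, map_mul, map_mul, map_pow, map_pow, AdjoinRoot.mk_X, AdjoinRoot.mk_C]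
        refine mul_mem ?_ (pow_mem (hgD _ (by
          rw [hΘg, AdjoinRoot.lift_root]; exact Finset.mem_insert_of_mem (Finset.mem_insert_self _ _))) _)
        induction p using Polynomial.induction_on' with
        | add p p' hp hp' => rw [map_add, map_add]; exact add_mem hp hp'
        | monomial n l =>
          rw [← C_mul_X_pow_eq_monomial, map_mul, map_mul, map_pow, map_pow]
          refine mul_mem ?_ (pow_mem (hgD _ (by
            rw [hΘg, AdjoinRoot.lift_of]
            show ψ (X.map (algebraMap B L)) ∈ gs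
            rw [Polynomial.map_X, show ψ X = T from aeval_X T]
            exact Finset.mem_insert_self _ _)) _)
          have h := hCD l
          rw [show cB l = algebraMap B S l from rfl, IsScalarTower.algebraMap_apply B (AdjoinRoot FB) S,
            IsScalarTower.algebraMap_apply B B[X] (AdjoinRoot FB), AdjoinRoot.algebraMap_eq,
            Polynomial.algebraMap_eq] at h
          exact h
    refine AlgHom.ext fun w => ?_
    obtain ⟨z, m, rfl⟩ := IsLocalization.exists_mk'_eq (Submonoid.powers (AdjoinRoot.of FB HB)) w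
    obtain ⟨_, n, rfl⟩ := m
    have h : IsLocalization.mk' S z
        (⟨(AdjoinRoot.of FB HB) ^ n, n, rfl⟩ : Submonoid.powers (AdjoinRoot.of FB HB)) ∈ Det := by
      have hI : IsLocalization.Away.invSelf (S := S) (AdjoinRoot.of FB HB) ∈ Det :=
        hinv _ _ (hR (AdjoinRoot.of FB HB)) (IsLocalization.Away.mul_invSelf _)
      have : IsLocalization.mk' S z
          (⟨(AdjoinRoot.of FB HB) ^ n, n, rfl⟩ : Submonoid.powers (AdjoinRoot.of FB HB)) =
          algebraMap _ S z * IsLocalization.Away.invSelf (S := S) (AdjoinRoot.of FB HB) ^ n := by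
        rw [IsLocalization.mk'_eq_iff_eq_mul]
        rw [mul_assoc, map_pow, ← mul_pow, mul_comm (IsLocalization.Away.invSelf _),
          IsLocalization.Away.mul_invSelf, one_pow, mul_one]
      rw [this]
      exact mul_mem (hR z) (pow_mem hI n)
    exact h

end Groth.Agent.LangWeilWeak
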