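import Groth.Agent.LangWeilWeak.StepCard
import Groth.Agent.LangWeilWeak.Induction

/-!
# The inductive step over `ℤ`
-/

set_option autoImplicit false
set_option linter.style.haveILetI false
set_option backward.isDefEq.respectTransparency false

noncomputable section

namespace Groth.Agent.LangWeilWeak

open Polynomial
open scoped IntermediateField

universe u

/-- Fractions from a generating `ℤ`-subalgebra. -/
theorem exists_div_int {K : Type*} [Field K] [Algebra ℚ K] {A : Subalgebra ℤ K}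
    (hA : IntermediateField.adjoin ℚ (A : Set K) = ⊤) (z : K) :
    ∃ a ∈ A, ∃ b ∈ A, b ≠ 0 ∧ b * z = a := by
  have hmem : z ∈ IntermediateField.adjoin ℚ (A : Set K) := by rw [hA]; trivial
  induction hmem using IntermediateField.adjoin_induction with
  | mem x hx => exact ⟨x, hx, 1, one_mem _, one_ne_zero, one_mul x⟩
  | algebraMap q =>
    haveI : CharZero K := charZero_of_injective_algebraMap (algebraMap ℚ K).injective
    refine ⟨(q.num : K), intCast_mem A _, (q.den : K), natCast_mem A _, Nat.cast_ne_zero.mpr q.den_ne_zero, ?_⟩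
    rw [eq_ratCast (algebraMap ℚ K) q, mul_comm, Rat.cast_def, div_mul_cancel₀ _ (Nat.cast_ne_zero.mpr q.den_ne_zero)]
  | add x y _ _ hx hy =>
    obtain ⟨a, ha, b, hb, hb0, hab⟩ := hx
    obtain ⟨a', ha', b', hb', hb0', hab'⟩ := hy
    exact ⟨a * b' + a' * b, add_mem (mul_mem ha hb') (mul_mem ha' hb), b * b', mul_mem hb hb',
      mul_ne_zero hb0 hb0', by rw [← hab, ← hab']; ring⟩
  | inv x _ hx =>
    obtain ⟨a, ha, b, hb, hb0, hab⟩ := hx
    rcases eq_or_ne x 0 with rfl | hx0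
    · exact ⟨0, zero_mem _, 1, one_mem _, one_ne_zero, by simp⟩
    · exact ⟨b, hb, a, ha, hab ▸ mul_ne_zero hb0 hx0, by rw [← hab]; field_simp⟩
  | mul x y _ _ hx hy =>
    obtain ⟨a, ha, b, hb, hb0, hab⟩ := hx
    obtain ⟨a', ha', b', hb', hb0', hab'⟩ := hy
    exact ⟨a * a', mul_mem ha ha', b * b', mul_mem hb hb', mul_ne_zero hb0 hb0', by rw [← hab, ← hab']; ring⟩

/-- A ring homomorphism as a `ℤ`-algebra homomorphism, whatever the algebra structures are. -/
def intHom {R S : Type*} [Semiring R] [Semiring S] [Algebra ℤ R] [Algebra ℤ S] (f : R →+* S) : R →ₐ[ℤ] S :=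
  AlgHom.mk f fun r => RingHom.congr_fun (Subsingleton.elim (f.comp (algebraMap ℤ R)) (algebraMap ℤ S)) r

@[simp] theorem intHom_apply {R S : Type*} [Semiring R] [Semiring S] [Algebra ℤ R] [Algebra ℤ S]
    (f : R →+* S) (x : R) : intHom f x = f x := rfl

/-- **The inductive step over `ℤ`.** -/
theorem exists_step_int {K : Type u} [Field K] [Algebra ℚ K] [Algebra.EssFiniteType ℚ K] {r : ℕ}
    (htr : Algebra.trdeg ℚ K = ((r + 1 : ℕ) : Cardinal)) (A : Subalgebra ℤ K) (hA : A.FG)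
    (hAK : IntermediateField.adjoin ℚ (A : Set K) = ⊤) :
    ∃ (L : IntermediateField ℚ K) (B : Subalgebra ℤ L), Algebra.EssFiniteType ℚ L ∧
      Algebra.trdeg ℚ L = (r : Cardinal) ∧ B.FG ∧ IntermediateField.adjoin ℚ (B : Set L) = ⊤ ∧
      ∃ (c : ℝ) (M : ℕ), 0 < c ∧ ∀ (Fq : Type u) [Field Fq] [Finite Fq], M ≤ Nat.card Fq →
        c * (Nat.card Fq : ℝ) * (Nat.card (B →+* Fq) : ℝ) ≤ (Nat.card (A →+* Fq) : ℝ) := by
  classical
  obtain ⟨L, T, y, F, hLfg, hLtr, hT, hFm, hFy, hmin, hden, hirr⟩ := exists_fibration ℚ K htr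
  have hLtr' : Algebra.trdeg ℚ L = (r : Cardinal) := by
    convert hLtr using 2
    all_goals first | rfl | exact Subsingleton.elim (α := Algebra ℚ L) _ _
  haveI hLfg' : Algebra.EssFiniteType ℚ L := by
    convert hLfg using 1
    all_goals first | rfl | exact Subsingleton.elim (α := Algebra ℚ L) _ _
  set ψ : L[X] →+* K := (aeval T : L[X] →ₐ[L] K).toRingHom with hψ
  have hψinj : Function.Injective ψ :=
    (injective_iff_map_eq_zero _).mpr fun p hp => transcendental_iff.mp hT p hp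
  -- generators of `L`
  obtain ⟨sL, hsL⟩ := (IntermediateField.fg_top ℚ L)
  -- denominators for `sL ∪ {T, y}`
  set gs : Finset K := insert T (insert y (sL.image L.val)) with hgs
  choose a haA b hbA hb0 hab using fun g : K => exists_div_int hAK g
  obtain ⟨gA, hgA⟩ := hA
  set bb : K := ∏ g ∈ gs, b g with hbb
  have hbbA : bb ∈ A := prod_mem fun g _ => hbA g
  have hbb0 : bb ≠ 0 := Finset.prod_ne_zero_iff.mpr fun g _ => hb0 g
  have hbg : ∀ g ∈ gs, bb * g ∈ A := by
    intro g hg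
    rw [hbb, ← Finset.mul_prod_erase _ _ hg, mul_comm (b g), mul_assoc, hab]
    exact mul_mem (prod_mem fun g _ => hbA g) (haA g)
  -- the common denominator in `L[T]`
  set E : Finset K := insert bb⁻¹ gA with hE
  choose q hq0 hq using hden
  set H : L[X] := ∏ z ∈ E, q z with hH
  have hH0 : H ≠ 0 := Finset.prod_ne_zero_iff.mpr fun z _ => hq0 z
  have hψH : ψ H ≠ 0 := (map_ne_zero_iff ψ hψinj).mpr hH0
  -- finitely many constants
  have hEmem : ∀ z ∈ E, z ∈ Algebra.adjoin ℤ (Set.range L.val ∪ {T, y, (ψ H)⁻¹}) := by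
    intro z hz
    set W := Algebra.adjoin ℤ (Set.range L.val ∪ {T, y, (ψ H)⁻¹})
    have hL : ∀ l : L, (l : K) ∈ W := fun l => Algebra.subset_adjoin (Or.inl ⟨l, rfl⟩)
    have hTy : ∀ w ∈ Algebra.adjoin L ({T, y} : Set K), w ∈ W := by
      intro w hw
      induction hw using Algebra.adjoin_induction with
      | mem x hx =>
        refine Algebra.subset_adjoin (Or.inr ?_)
        rcases hx with rfl | hx
        · exact Or.inl rfl
        · exact Or.inr (Or.inl hx)
      | algebraMap l => exact hL l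
      | add _ _ _ _ hx hy => exact add_mem hx hy
      | mul _ _ _ _ hx hy => exact mul_mem hx hy
    have hψW : ∀ g : L[X], ψ g ∈ W := fun g =>
      hTy _ (Algebra.adjoin_mono (by simp) (aeval_mem_adjoin_singleton L T))
    have : z = (z * ψ (q z)) * ψ (∏ w ∈ E.erase z, q w) * (ψ H)⁻¹ := by
      rw [mul_assoc z, ← map_mul, Finset.mul_prod_erase _ _ hz, ← hH, mul_inv_cancel_right₀ hψH]
    rw [this]
    exact mul_mem (mul_mem (hTy _ (hq z)) (hψW _)) (Algebra.subset_adjoin (by simp))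
  choose tz htz htz' using fun z (hz : z ∈ E) => exists_finset_of_mem_algebraAdjoin (hEmem z hz)
  set cL : Finset L := (F.support.biUnion fun i => (F.coeff i).support.image fun j => (F.coeff i).coeff j) ∪
    (H.support.image fun j => H.coeff j) ∪
    (E.attach.biUnion fun z => (tz z.1 z.2).preimage L.val (L.val.injective.injOn)) with hcL
  -- the subalgebra of constants
  set B₀ : Subalgebra ℤ L := Algebra.adjoin ℤ ((sL : Set L) ∪ (cL : Set L)) with hB₀
  have hsL' : ∀ l ∈ sL, l ∈ B₀ := fun l hl => Algebra.subset_adjoin (Or.inl hl)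
  have hcL' : ∀ l ∈ cL, l ∈ B₀ := fun l hl => Algebra.subset_adjoin (Or.inr hl)
  have hB₀L : IntermediateField.adjoin ℚ (B₀ : Set L) = ⊤ :=
    top_le_iff.mp (hsL ▸ IntermediateField.adjoin.mono ℚ _ _ fun l hl => hsL' l hl)
  have hFcoef : ∀ i j, (F.coeff i).coeff j ∈ B₀ := by
    intro i j
    by_cases hj : (F.coeff i).coeff j = 0
    · rw [hj]; exact zero_mem _
    · refine hcL' _ (Finset.mem_union_left _ (Finset.mem_union_left _ ?_))
      refine Finset.mem_biUnion.mpr ⟨i, ?_, Finset.mem_image.mpr ⟨j, mem_support_iff.mpr hj, rfl⟩⟩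
      exact mem_support_iff.mpr fun h => hj (by simp [h])
  have hHcoef : ∀ j, H.coeff j ∈ B₀ := by
    intro j
    by_cases hj : H.coeff j = 0
    · rw [hj]; exact zero_mem _
    · exact hcL' _ (Finset.mem_union_left _ (Finset.mem_union_right _
        (Finset.mem_image.mpr ⟨j, mem_support_iff.mpr hj, rfl⟩)))
  -- lifts to `B₀`
  obtain ⟨H₀, hH₀⟩ : ∃ H₀ : B₀[X], H₀.map (algebraMap B₀ L) = H := by
    have : H ∈ lifts (algebraMap B₀ L) := (lifts_iff_coeff_lifts _).mpr fun j => ⟨⟨_, hHcoef j⟩, rfl⟩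
    exact (mem_lifts H).mp this
  obtain ⟨F₀, hF₀, hF₀d, hF₀m⟩ : ∃ F₀ : B₀[X][X], F₀.map (mapRingHom (algebraMap B₀ L)) = F ∧
      F₀.natDegree = F.natDegree ∧ F₀.Monic := by
    refine lifts_and_natDegree_eq_and_monic ((lifts_iff_coeff_lifts _).mpr fun i => ?_) hFm
    have : F.coeff i ∈ lifts (algebraMap B₀ L) := (lifts_iff_coeff_lifts _).mpr fun j => ⟨⟨_, hFcoef i j⟩, rfl⟩
    exact (mem_lifts _).mp this
  haveI : IsFractionRing B₀ L := by
    refine IsFractionRing.of_field B₀ L fun z => ?_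
    obtain ⟨a, ha, b, hb, hb0, hab⟩ := exists_div_int hB₀L z
    refine ⟨⟨a, ha⟩, ⟨b, hb⟩, ?_⟩
    show z = a / b
    rw [← hab]; exact (mul_div_cancel_left₀ _ hb0).symm
  -- specialisations stay irreducible
  obtain ⟨f, hf0, hf⟩ : ∃ f : B₀, f ≠ 0 ∧ ∀ (κ : Type u) [Field κ] (φ : B₀ →+* κ), φ f ≠ 0 →
      Irreducible (F₀.map (mapRingHom φ)) := by
    refine exists_irreducible_specializations F₀ ?_
    refine irreducible_fractionRing (L := L) F₀ ?_
    rw [← hF₀, Polynomial.map_map, mapRingHom_comp] at hirr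
    exact hirr
  obtain ⟨n₀, hn₀⟩ : ∃ n, H₀.coeff n ≠ 0 := by
    by_contra! hall
    exact hH0 (by rw [← hH₀, show H₀ = 0 from Polynomial.ext fun n => by simpa using hall n, Polynomial.map_zero])
  -- denominators of the new constants
  have hsLL : IntermediateField.adjoin ℚ ((Algebra.adjoin ℤ (sL : Set L)) : Set L) = ⊤ :=
    top_le_iff.mp (hsL ▸ IntermediateField.adjoin.mono ℚ _ _ Algebra.subset_adjoin)
  choose aL haL bL hbL hbL0 habL using fun l : L => exists_div_int hsLL l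
  have hadj : Algebra.adjoin ℤ (sL : Set L) ≤ B₀ := Algebra.adjoin_mono Set.subset_union_left
  set u : L := ((f : L) * (H₀.coeff n₀ : L)) * ∏ l ∈ cL, bL l with hu
  have hu0 : u ≠ 0 := by
    refine mul_ne_zero (mul_ne_zero ?_ ?_) (Finset.prod_ne_zero_iff.mpr fun l _ => hbL0 l)
    · exact fun h => hf0 (Subtype.ext h)
    · exact fun h => hn₀ (Subtype.ext h)
  have huB₀ : u ∈ B₀ := mul_mem (mul_mem f.2 (H₀.coeff n₀).2) (prod_mem fun l _ => hadj (hbL l))
  set B : Subalgebra ℤ L := Algebra.adjoin ℤ (((sL : Set L) ∪ (cL : Set L)) ∪ {u⁻¹}) with hB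
  have hBfg : B.FG := by
    refine Subalgebra.fg_def.mpr ⟨_, ?_, rfl⟩
    exact ((sL.finite_toSet.union cL.finite_toSet).union (Set.finite_singleton _))
  have hB₀B : B₀ ≤ B := Algebra.adjoin_mono Set.subset_union_left
  have hBL : IntermediateField.adjoin ℚ (B : Set L) = ⊤ :=
    top_le_iff.mp (hB₀L ▸ IntermediateField.adjoin.mono ℚ _ _ hB₀B)
  haveI : Algebra.FiniteType ℤ B := B.fg_iff_finiteType.mp hBfg
  let inc : B₀ →+* B := (Subalgebra.inclusion hB₀B).toRingHom
  have hunit : ∀ (κ : Type u) [Field κ] (φ : B →+* κ), φ (inc f) ≠ 0 ∧ φ (inc (H₀.coeff n₀)) ≠ 0 := by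
    intro κ _ φ
    have hiu : (⟨u, hB₀B huB₀⟩ : B) * ⟨u⁻¹, Algebra.subset_adjoin (Or.inr rfl)⟩ = 1 :=
      Subtype.ext (mul_inv_cancel₀ hu0)
    have h1 : φ ⟨u, hB₀B huB₀⟩ ≠ 0 := fun h0 => by
      have := congrArg φ hiu
      rw [map_mul, h0, zero_mul, map_one] at this
      exact zero_ne_one this
    have h2 : (⟨u, hB₀B huB₀⟩ : B) = inc f * inc (H₀.coeff n₀) *
        ⟨∏ l ∈ cL, bL l, hB₀B (prod_mem fun l _ => hadj (hbL l))⟩ := Subtype.ext rfl
    rw [h2, map_mul, map_mul] at h1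
    exact ⟨left_ne_zero_of_mul (left_ne_zero_of_mul h1), right_ne_zero_of_mul (left_ne_zero_of_mul h1)⟩
  set FB : B[X][X] := F₀.map (mapRingHom inc) with hFB
  set HB : B[X] := H₀.map inc with hHB
  have hFBm : FB.Monic := hF₀m.map _
  have hstep := card_hom_step (B := B) hFBm (H := HB)
    (fun Ω _ φ _ => by
      rw [hFB, Polynomial.map_map, mapRingHom_comp]
      exact hf Ω (φ.comp inc) (hunit Ω φ).1)
    (fun κ _ φ h0 => by
      have h := congrArg (fun g => g.coeff n₀) h0
      rw [hHB, Polynomial.map_map] at h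
      simp only [coeff_map, coeff_zero] at h
      exact (hunit κ φ).2 h)
  -- into `K`
  let v : B[X] →+* K := ψ.comp (mapRingHom (algebraMap B L))
  have hFBL : FB.map (mapRingHom (algebraMap B L)) = F := by
    rw [hFB, Polynomial.map_map, mapRingHom_comp, ← hF₀]
    rfl
  have hFBy : eval₂ v y FB = 0 := by
    rw [← eval₂_map, hFBL]; exact hFy
  let g : AdjoinRoot FB →+* K := AdjoinRoot.lift v y hFBy
  have hg : Function.Injective g := by
    rw [injective_iff_map_eq_zero]
    intro z hz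
    obtain ⟨P, rfl⟩ := AdjoinRoot.mk_surjective z
    rw [AdjoinRoot.lift_mk] at hz
    have h1 : AdjoinRoot.mk FB P = AdjoinRoot.mk FB (P %ₘ FB) := by
      rw [AdjoinRoot.mk_eq_mk]
      exact ⟨P /ₘ FB, by linear_combination -(modByMonic_add_div P FB)⟩
    rw [h1]
    have h2 : eval₂ v y (P %ₘ FB) = 0 := by
      have h := congrArg (eval₂ v y) (modByMonic_add_div P FB)
      rwa [eval₂_add, eval₂_mul, hFBy, zero_mul, add_zero, hz] at h
    have h3 : (P %ₘ FB).map (mapRingHom (algebraMap B L)) = 0 := by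
      refine hmin _ ?_ (by rw [eval₂_map]; exact h2)
      rw [← hFBL, hFBm.degree_map]
      exact degree_map_le.trans_lt (degree_modByMonic_lt P hFBm)
    have h4 : P %ₘ FB = 0 := Polynomial.map_injective _
      (Polynomial.map_injective _ Subtype.val_injective) (h3.trans (Polynomial.map_zero _).symm)
    rw [h4, map_zero]
  haveI : IsDomain (AdjoinRoot FB) := hg.isDomain g
  have hgH : g (AdjoinRoot.of FB HB) = ψ H := by
    rw [AdjoinRoot.lift_of]
    show ψ (HB.map (algebraMap B L)) = ψ H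
    rw [hHB, Polynomial.map_map, ← hH₀]
    rfl
  have hgHu : IsUnit (g (AdjoinRoot.of FB HB)) := hgH ▸ Ne.isUnit hψH
  set S := Localization.Away (AdjoinRoot.of FB HB)
  let Θ : S →ₐ[ℤ] K := intHom (IsLocalization.Away.lift (AdjoinRoot.of FB HB) hgHu : S →+* K)
  have hΘ : Function.Injective Θ := by
    show Function.Injective (IsLocalization.Away.lift (AdjoinRoot.of FB HB) hgHu)
    exact (IsLocalization.lift_injective_iff _).mpr fun x y' =>
      ⟨fun h => congrArg g (IsLocalization.injective S (M := Submonoid.powers (AdjoinRoot.of FB HB))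
        (le_nonZeroDivisors_of_noZeroDivisors (by
          rintro ⟨n, hn⟩
          have := congrArg g hn
          rw [map_pow, map_zero, hgH] at this
          exact pow_ne_zero _ hψH this)) h), fun h => by rw [hg h]⟩
  -- its range contains `A`
  have hΘg : ∀ z : AdjoinRoot FB, Θ (algebraMap _ S z) = g z := fun z =>
    IsLocalization.Away.lift_eq _ hgHu z
  have hrB : ∀ l ∈ B, (l : K) ∈ Θ.range := fun l hl => ⟨algebraMap _ S (AdjoinRoot.of FB (C ⟨l, hl⟩)), by
    show Θ _ = _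
    rw [hΘg, AdjoinRoot.lift_of]
    show ψ ((C (⟨l, hl⟩ : B)).map (algebraMap B L)) = _
    rw [Polynomial.map_C]
    exact aeval_C T _⟩
  have hrT : T ∈ Θ.range := ⟨algebraMap _ S (AdjoinRoot.of FB X), by
    show Θ _ = _
    rw [hΘg, AdjoinRoot.lift_of]
    show ψ (X.map (algebraMap B L)) = _
    rw [Polynomial.map_X]
    exact aeval_X T⟩
  have hry : y ∈ Θ.range := ⟨algebraMap _ S (AdjoinRoot.root FB), by
    show Θ _ = _
    rw [hΘg, AdjoinRoot.lift_root]⟩
  have hrH : (ψ H)⁻¹ ∈ Θ.range := ⟨IsLocalization.Away.invSelf (AdjoinRoot.of FB HB), by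
    refine eq_inv_of_mul_eq_one_left ?_
    show Θ _ * ψ H = 1
    rw [← hgH, ← hΘg, ← map_mul, mul_comm, IsLocalization.Away.mul_invSelf, map_one]⟩
  have hEr : ∀ z ∈ E, z ∈ Θ.range := by
    intro z hz
    refine Algebra.adjoin_le (fun w hw => ?_) (htz' z hz)
    rcases htz z hz hw with ⟨l, rfl⟩ | hw'
    · exact hrB l (hB₀B (hcL' l (Finset.mem_union_right _ (Finset.mem_biUnion.mpr
        ⟨⟨z, hz⟩, Finset.mem_attach _ _, Finset.mem_preimage.mpr hw⟩))))
    · rcases hw' with rfl | rfl | rfl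
      exacts [hrT, hry, hrH]
  have hAr : A ≤ Θ.range := hgA ▸ Algebra.adjoin_le fun z hz => hEr z (Finset.mem_insert_of_mem hz)
  let j : A →ₐ[ℤ] S := (AlgEquiv.ofInjective Θ hΘ).symm.toAlgHom.comp (Subalgebra.inclusion hAr)
  have hj : ∀ z : A, Θ (j z) = z := fun z =>
    congrArg Subtype.val ((AlgEquiv.ofInjective Θ hΘ).apply_symm_apply (Subalgebra.inclusion hAr z))
  -- restriction is injective
  obtain ⟨c, M, hc, hM⟩ := hstep
  refine ⟨L, B, hLfg', hLtr', hBfg, hBL, c, M, hc, fun Fq _ _ hFq => (hM Fq hFq).trans ?_⟩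
  haveI : Algebra.FiniteType ℤ A := A.fg_iff_finiteType.mp ⟨gA, hgA⟩
  haveI := finite_ringHom_int A Fq
  refine Nat.cast_le.mpr (Nat.card_le_card_of_injective (fun φ => φ.comp j.toRingHom) fun φ φ' hφ => ?_)
  set Det : Subalgebra ℤ S := AlgHom.equalizer (intHom φ) (intHom φ')
  have hinv : ∀ x y' : S, x ∈ Det → x * y' = 1 → y' ∈ Det := by
    intro x y' hx hxy
    show φ y' = φ' y'
    have h1 := congrArg φ hxy
    have h2 := congrArg φ' hxy
    rw [map_mul, map_one] at h1 h2
    rw [show φ' x = φ x from hx.symm] at h2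
    exact mul_left_cancel₀ (left_ne_zero_of_mul_eq_one h1) (h1.trans h2.symm)
  have hmemD : ∀ w : S, (∃ z : A, Θ w = z) → w ∈ Det := by
    rintro w ⟨z, hz⟩
    rw [show w = j z from hΘ (hz.trans (hj z).symm)]
    exact DFunLike.congr_fun hφ z
  obtain ⟨β, hβ : Θ β = bb⁻¹⟩ := hEr bb⁻¹ (Finset.mem_insert_self _ _)
  have hβD : β ∈ Det := by
    refine hinv (j ⟨bb, hbbA⟩) β (hmemD _ ⟨_, hj _⟩) (hΘ ?_)
    rw [map_mul, hj, hβ, map_one]
    exact mul_inv_cancel₀ hbb0
  have hgD : ∀ w : S, Θ w ∈ gs → w ∈ Det := by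
    intro w hw
    have : w = j ⟨bb * Θ w, hbg _ hw⟩ * β := hΘ (by
      rw [map_mul, hj, hβ]
      show Θ w = bb * Θ w * bb⁻¹
      field_simp)
    rw [this]
    exact mul_mem (hmemD _ ⟨_, hj _⟩) hβD
  let cB : B →ₐ[ℤ] S :=
    (intHom (algebraMap B S))
  have hcB : ∀ l : B, Θ (cB l) = (l : L) := fun l => by
    show Θ (algebraMap B S l) = _
    rw [IsScalarTower.algebraMap_apply B (AdjoinRoot FB) S, hΘg,
      IsScalarTower.algebraMap_apply B B[X] (AdjoinRoot FB), AdjoinRoot.algebraMap_eq, AdjoinRoot.lift_of,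
      Polynomial.algebraMap_eq]
    show ψ ((C l).map (algebraMap B L)) = _
    rw [Polynomial.map_C]
    exact aeval_C T _
  set D₀ : Subalgebra ℤ L := ((Det.comap cB).map B.val) with hD₀
  have hsD : ∀ l ∈ sL, l ∈ D₀ := fun l hl =>
    ⟨⟨l, hB₀B (hsL' l hl)⟩, hgD _ (by
      show Θ (cB _) ∈ gs
      rw [hcB]
      exact Finset.mem_insert_of_mem (Finset.mem_insert_of_mem (Finset.mem_image_of_mem _ hl))), rfl⟩
  have hinvD : ∀ x y' : L, x ∈ D₀ → x * y' = 1 → y' ∈ B → y' ∈ D₀ := by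
    rintro _ y' ⟨x, hx, rfl⟩ hxy hy'
    exact ⟨⟨y', hy'⟩, hinv _ (cB ⟨y', hy'⟩) hx (by
      show cB x * cB ⟨y', hy'⟩ = 1
      rw [← map_mul, show x * ⟨y', hy'⟩ = 1 from Subtype.ext hxy, map_one]), rfl⟩
  have hcD : ∀ l ∈ cL, l ∈ D₀ := by
    intro l hl
    have hsub : ∀ w ∈ Algebra.adjoin ℤ (sL : Set L), w ∈ D₀ := fun w hw => Algebra.adjoin_le hsD hw
    set o := ((f : L) * (H₀.coeff n₀ : L)) * ∏ l' ∈ cL.erase l, bL l'
    have hoB : o * u⁻¹ ∈ B := mul_mem (hB₀B (mul_mem (mul_mem f.2 (H₀.coeff n₀).2)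
      (prod_mem fun l' _ => hadj (hbL l')))) (Algebra.subset_adjoin (Or.inr rfl))
    have hone : bL l * (o * u⁻¹) = 1 := by
      rw [← mul_assoc, show bL l * o = u by
        rw [hu, ← Finset.mul_prod_erase _ _ hl]; ring, mul_inv_cancel₀ hu0]
    have hinvm : o * u⁻¹ ∈ D₀ := hinvD _ _ (hsub _ (hbL l)) hone hoB
    have : l = aL l * (o * u⁻¹) := by
      rw [← habL l, mul_comm (bL l) l, mul_assoc, hone, mul_one]
    rw [this]
    exact mul_mem (hsub _ (haL l)) hinvm
  have hB₀D : B₀ ≤ D₀ := Algebra.adjoin_le (by rintro l (hl | hl); exacts [hsD l hl, hcD l hl])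
  have hBD : B ≤ D₀ := Algebra.adjoin_le (by
    rintro l (hl | hl)
    · exact hB₀D (Algebra.subset_adjoin hl)
    · rw [hl]
      exact hinvD u _ (hB₀D huB₀) (mul_inv_cancel₀ hu0) (Algebra.subset_adjoin (Or.inr rfl)))
  have hCD : ∀ l : B, cB l ∈ Det := by
    intro l
    obtain ⟨l', hl', hll⟩ := hBD l.2
    rwa [Subtype.ext hll] at hl'
  -- `S` is generated by `B`, `T`, `y` and the inverse of `H`
  have hR : ∀ z : AdjoinRoot FB, algebraMap _ S z ∈ Det := by
    intro z
    obtain ⟨P, rfl⟩ := AdjoinRoot.mk_surjective z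
    induction P using Polynomial.induction_on' with
    | add p p' hp hp' => rw [map_add, map_add]; exact add_mem hp hp'
    | monomial n p =>
      rw [← C_mul_X_pow_eq_monomial, map_mul, map_mul, map_pow, map_pow, AdjoinRoot.mk_X, AdjoinRoot.mk_C]
      refine mul_mem ?_ (pow_mem (hgD _ (by
        rw [hΘg, AdjoinRoot.lift_root]; exact Finset.mem_insert_of_mem (Finset.mem_insert_self _ _))) _)
      induction p using Polynomial.induction_on' with
      | add p p' hp hp' => rw [map_add, map_add]; exact add_mem hp hp'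
      | monomial n l =>
        rw [← C_mul_X_pow_eq_monomial, map_mul, map_mul, map_pow, map_pow]
        refine mul_mem ?_ (pow_mem (hgD _ (by
          rw [hΘg, AdjoinRoot.lift_of]
          show ψ (X.map (algebraMap B L)) ∈ gs
          rw [Polynomial.map_X, show ψ X = T from aeval_X T]
          exact Finset.mem_insert_self _ _)) _)
        have h := hCD l
        rw [show cB l = algebraMap B S l from rfl, IsScalarTower.algebraMap_apply B (AdjoinRoot FB) S,
          IsScalarTower.algebraMap_apply B B[X] (AdjoinRoot FB), AdjoinRoot.algebraMap_eq,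
          Polynomial.algebraMap_eq] at h
        exact h
  refine RingHom.ext fun w => ?_
  obtain ⟨z, m, rfl⟩ := IsLocalization.exists_mk'_eq (Submonoid.powers (AdjoinRoot.of FB HB)) w
  obtain ⟨_, n, rfl⟩ := m
  have h : IsLocalization.mk' S z
      (⟨(AdjoinRoot.of FB HB) ^ n, n, rfl⟩ : Submonoid.powers (AdjoinRoot.of FB HB)) ∈ Det := by
    have hI : IsLocalization.Away.invSelf (S := S) (AdjoinRoot.of FB HB) ∈ Det :=
      hinv _ _ (hR (AdjoinRoot.of FB HB)) (IsLocalization.Away.mul_invSelf _)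
    have : IsLocalization.mk' S z
        (⟨(AdjoinRoot.of FB HB) ^ n, n, rfl⟩ : Submonoid.powers (AdjoinRoot.of FB HB)) =
        algebraMap _ S z * IsLocalization.Away.invSelf (S := S) (AdjoinRoot.of FB HB) ^ n := by
      rw [IsLocalization.mk'_eq_iff_eq_mul]
      rw [mul_assoc, map_pow, ← mul_pow, mul_comm (IsLocalization.Away.invSelf _),
        IsLocalization.Away.mul_invSelf, one_pow, mul_one]
    rw [this]
    exact mul_mem (hR z) (pow_mem hI n)
  exact h


end Groth.Agent.LangWeilWeak
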