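import Groth.Agent.CurveZeta.Weil
import Groth.Agent.FFLib.RR

/-!
# Weak lower bound for the number of zeros of a plane equation, function-field side

For a function field `K = k(T, y)` with `y` integral over `k[T]` of degree `D`, the genus is bounded
in terms of `D` and the `T`-degree of the coefficients, and rational places give zeros.
-/

set_option autoImplicit false

noncomputable section

namespace Groth.Agent.LangWeilWeak

open FunFld Polynomial WithZero
open scoped IntermediateField
open Groth.Agent.FFLib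

variable {k K : Type*} [Field k] [Field K] [Algebra k K]

/-- `y ^ D` is bounded by the coefficients if `y` is a root of a monic polynomial. -/
theorem val_le_of_isRoot (P : Place k K) {T y : K} {F : k[X][X]} (hF : F.Monic) {c : ℕ}
    (hc : ∀ i, (F.coeff i).natDegree ≤ c) (hy : eval₂ (aeval T : k[X] →ₐ[k] K).toRingHom y F = 0) :
    P.1 y ≤ (max 1 (P.1 T)) ^ c := by
  set M := (max 1 (P.1 T)) ^ c with hM
  have h1M : 1 ≤ M := one_le_pow₀ (le_max_left _ _)
  by_contra hlt
  rw [not_le] at hlt
  have hy1 : 1 < P.1 y := lt_of_le_of_lt h1M hlt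
  have hcoef : ∀ i, P.1 (aeval T (F.coeff i)) ≤ M := by
    intro i
    rw [aeval_eq_sum_range]
    refine P.1.map_sum_le fun j hj => ?_
    rw [Finset.mem_range] at hj
    rw [Algebra.smul_def, map_mul, map_pow]
    refine (mul_le_mul' (P.2.1 _) le_rfl).trans ?_
    rw [one_mul, hM]
    exact (pow_le_pow_left' (le_max_right _ _) j).trans
      (pow_le_pow_right' (le_max_left _ _) (by linarith [hc i]))
  rw [eval₂_eq_sum_range, Finset.sum_range_succ, hF.coeff_natDegree, map_one, one_mul] at hy
  have hyD : y ^ F.natDegree = -∑ i ∈ Finset.range F.natDegree,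
      (aeval T : k[X] →ₐ[k] K).toRingHom (F.coeff i) * y ^ i := eq_neg_of_add_eq_zero_right hy
  have hlt' : P.1 (y ^ F.natDegree) < P.1 y ^ F.natDegree := by
    rw [hyD, Valuation.map_neg]
    refine P.1.map_sum_lt (pow_ne_zero _ (ne_of_gt (lt_trans zero_lt_one hy1))) fun i hi => ?_
    rw [Finset.mem_range] at hi
    rw [map_mul, map_pow]
    calc P.1 (aeval T (F.coeff i)) * P.1 y ^ i ≤ M * P.1 y ^ i := mul_le_mul' (hcoef i) le_rfl
      _ < P.1 y * P.1 y ^ i := by
        exact mul_lt_mul_of_pos_right hlt (pow_pos (lt_trans zero_lt_one hy1) i)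
      _ = P.1 y ^ (i + 1) := (pow_succ' _ _).symm
      _ ≤ P.1 y ^ F.natDegree := pow_le_pow_right' hy1.le hi
  rw [map_pow] at hlt'
  exact lt_irrefl _ hlt'

/-- Multiples of the pole divisor. -/
theorem mem_L_poles {T : K} (hF : IsFF k K) {z : K} {n : ℕ}
    (h : ∀ P : Place k K, P.1 z ≤ (max 1 (P.1 T)) ^ n) :
    z ∈ L ((n : ℕ) • (poles T : Divisor k K)) := by
  intro P
  refine (h P).trans ?_
  rw [Finsupp.smul_apply, WithZero.exp_nsmul]
  refine pow_le_pow_left' (max_le ?_ (val_le_exp_poles hF T P)) n
  rw [← WithZero.exp_zero, WithZero.exp_le_exp]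
  exact poles_nonneg T P

/-- The genus bound. -/
theorem genus_le_of_equation (hK : IsFunctionField k K) {T y : K} (hT : Transcendental k T)
    {D : ℕ} (hD : Module.finrank k⟮T⟯ K = D)
    (hli : LinearIndependent k⟮T⟯ fun i : Fin D => y ^ (i : ℕ))
    {F : k[X][X]} (hF : F.Monic) {c : ℕ} (hc : ∀ i, (F.coeff i).natDegree ≤ c)
    (hy : eval₂ (aeval T : k[X] →ₐ[k] K).toRingHom y F = 0) :
    genus k K ≤ c * D ^ 2 + 1 := by
  haveI := IsFF.finite_adjoin hK.1 hT
  have hD0 : 0 < D := hD ▸ Module.finrank_pos
  set g := genus k K with hg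
  set m := 2 * g + c * D with hm
  set B : Divisor k K := (poles T : Divisor k K)
  have hB : B.deg = D := by rw [deg_poles hK.1 hT, hD]
  have hdeg : ∀ n : ℕ, ((n : ℕ) • B).deg = n * (D : ℤ) := by
    intro n
    induction n with
    | zero => simp
    | succ n ih => rw [succ_nsmul, Divisor.deg_add, ih, hB]; push_cast; ring
  have hell : (ell (m • B) : ℤ) = (m • B).deg + 1 - g :=
    ell_of_deg_gt hK (by rw [hdeg]; push_cast [hm]; nlinarith)
  -- the monomials y ^ i T ^ j
  have hpow : LinearIndependent k fun j : ℕ => (⟨T, IntermediateField.mem_adjoin_simple_self k T⟩ : k⟮T⟯) ^ j := by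
    refine LinearIndependent.of_comp (IntermediateField.val k⟮T⟯).toLinearMap ?_
    exact linearIndependent_powers hT
  have hind : LinearIndependent k fun p : Fin (2 * g + 1) × Fin D => T ^ (p.1 : ℕ) * y ^ (p.2 : ℕ) := by
    have h := linearIndependent_smul (hpow.comp (fun j : Fin (2 * g + 1) => (j : ℕ)) Fin.val_injective) hli
    convert h using 1
    funext p
    simp [IntermediateField.smul_def]
  have hmem : ∀ p : Fin (2 * g + 1) × Fin D, T ^ (p.1 : ℕ) * y ^ (p.2 : ℕ) ∈ L (m • B) := by
    intro p
    refine mem_L_poles hK.1 fun P => ?_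
    rw [map_mul, map_pow, map_pow]
    calc P.1 T ^ (p.1 : ℕ) * P.1 y ^ (p.2 : ℕ)
        ≤ (max 1 (P.1 T)) ^ (p.1 : ℕ) * ((max 1 (P.1 T)) ^ c) ^ (p.2 : ℕ) :=
          mul_le_mul' (pow_le_pow_left' (le_max_right _ _) _)
            (pow_le_pow_left' (val_le_of_isRoot P hF hc hy) _)
      _ ≤ (max 1 (P.1 T)) ^ m := by
          rw [← pow_mul, ← pow_add]
          refine pow_le_pow_right' (le_max_left _ _) ?_
          have h1 := p.1.2
          have h2 : c * (p.2 : ℕ) ≤ c * D := Nat.mul_le_mul_left c p.2.2.le
          omega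
  haveI := L_finite hK.1 (m • B)
  have hcard : (2 * g + 1) * D ≤ ell (m • B) := by
    have h : LinearIndependent k fun p => (⟨_, hmem p⟩ : L (m • B)) :=
      LinearIndependent.of_comp (L (m • B)).subtype hind
    have h' := h.fintype_card_le_finrank
    rw [Fintype.card_prod, Fintype.card_fin, Fintype.card_fin] at h'
    exact h'
  have : ((2 * g + 1) * D : ℕ) + (g : ℤ) ≤ (m : ℤ) * D + 1 := by
    have := (Int.ofNat_le.mpr hcard)
    rw [hdeg] at hell
    push_cast at this ⊢
    linarith
  have hnat : (2 * g + 1) * D + g ≤ m * D + 1 := by exact_mod_cast this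
  rw [hm] at hnat
  ring_nf at hnat ⊢
  omega

/-- The zero set of `F` in the affine plane. -/
def zeroSet (F : k[X][X]) : Set (k × k) := {p | (F.map (evalRingHom p.1)).eval p.2 = 0}

/-- The residue homomorphism of a rational place. -/
theorem exists_residue_hom (hF : IsFF k K) (P : Place k K) (hP : P.deg = 1) :
    ∃ ρ : P.O →ₐ[k] k, ∀ a : P.O, ρ a = 0 ↔ P.1 a < 1 := by
  haveI := residue_finite hF P
  have hb : Function.Bijective (algebraMap k (Res P)) :=
    ⟨(algebraMap k (Res P)).injective, fun z => by
      obtain ⟨c, hc⟩ := (finrank_eq_one_iff_of_nonzero' (1 : Res P) one_ne_zero).mp hP z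
      exact ⟨c, (Algebra.algebraMap_eq_smul_one c).trans hc⟩⟩
  let e : Res P ≃ₐ[k] k := (AlgEquiv.ofBijective (Algebra.ofId k (Res P)) hb).symm
  let res : P.O →ₐ[k] Res P := { IsLocalRing.residue P.O with commutes' := fun _ => rfl }
  exact ⟨e.toAlgHom.comp res, fun a => (map_eq_zero_iff _ e.injective).trans (residue_eq_zero P a)⟩

theorem adjoin_sub_const (T : K) (t : k) : k⟮T - algebraMap k K t⟯ = k⟮T⟯ := by
  refine le_antisymm ?_ ?_ <;> rw [IntermediateField.adjoin_simple_le_iff]
  · exact sub_mem (IntermediateField.mem_adjoin_simple_self k T) (IntermediateField.algebraMap_mem _ t)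
  · simpa using add_mem (IntermediateField.mem_adjoin_simple_self k (T - algebraMap k K t))
      (IntermediateField.algebraMap_mem _ t)

/-- At most `[K : k(x)]` places where `x` vanishes. -/
theorem card_zeros_le (hF : IsFF k K) {x : K} (hx : Transcendental k x) (S : Finset (Place k K))
    (hS : ∀ P ∈ S, P.1 x < 1) : S.card ≤ Module.finrank k⟮x⟯ K := by
  have hx0 : x ≠ 0 := fun e => hx (e ▸ isAlgebraic_zero)
  have h : ∑ _P ∈ S, (1 : ℤ) ≤ ∑ P ∈ S, P.ord x * (P.deg : ℤ) := Finset.sum_le_sum fun P hP => by
    have h1 : 0 < P.ord x := (val_lt_one_iff P hx0).mp (hS P hP)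
    have h2 : (0 : ℤ) < P.deg := by exact_mod_cast deg_pos hF P
    nlinarith
  have h' := h.trans (sum_ord_deg_le hF S hx hS)
  simpa using h'

/-- Rational places give zeros. -/
theorem card_places_le [Finite k] (hK : IsFunctionField k K) {T y : K} (hT : Transcendental k T)
    {D : ℕ} (hD : Module.finrank k⟮T⟯ K = D) {F : k[X][X]} (hF : F.Monic)
    (hy : eval₂ (aeval T : k[X] →ₐ[k] K).toRingHom y F = 0) :
    placeCount k K 1 ≤ D * ((zeroSet F).ncard + 1) := by
  classical
  haveI : Finite {P : Place k K // P.deg = 1} :=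
    ((finite_deg_le (k := k) hK.1 1).subset fun P (hP : P.deg = 1) => hP.le).to_subtype
  haveI := Fintype.ofFinite {P : Place k K // P.deg = 1}
  haveI := Fintype.ofFinite k
  rw [placeCount_one, Nat.card_eq_fintype_card]
  choose ρ hρ using fun P : {P : Place k K // P.deg = 1} => exists_residue_hom hK.1 P.1 P.2
  -- the point of a place
  let f : {P : Place k K // P.deg = 1} → Option (k × k) := fun P =>
    if h : T ∈ P.1.O ∧ y ∈ P.1.O then some (ρ P ⟨T, h.1⟩, ρ P ⟨y, h.2⟩) else none
  have hint : ∀ P : {P : Place k K // P.deg = 1}, T ∈ P.1.O → y ∈ P.1.O := by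
    intro P hTO
    obtain ⟨c, hc⟩ : ∃ c : ℕ, ∀ i, (F.coeff i).natDegree ≤ c := by
      refine ⟨(F.support.sup fun i => (F.coeff i).natDegree), fun i => ?_⟩
      by_cases hi : i ∈ F.support
      · exact Finset.le_sup (f := fun i => (F.coeff i).natDegree) hi
      · simp [notMem_support_iff.mp hi]
    rw [FFLib.mem_O_iff] at hTO ⊢
    refine (val_le_of_isRoot P.1 hF hc hy).trans ?_
    rw [max_eq_left hTO, one_pow]
  have hz : ∀ P, ∀ p, f P = some p → p ∈ zeroSet F := by
    intro P p hp
    by_cases h : T ∈ P.1.O ∧ y ∈ P.1.O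
    · simp only [f, dif_pos h, Option.some.injEq] at hp
      subst hp
      let T' : P.1.O := ⟨T, h.1⟩
      let y' : P.1.O := ⟨y, h.2⟩
      let incl : P.1.O →ₐ[k] K := { P.1.O.subtype with commutes' := fun _ => rfl }
      have h0 : eval₂ (aeval T' : k[X] →ₐ[k] P.1.O).toRingHom y' F = 0 := by
        apply (Subtype.val_injective : Function.Injective (incl : P.1.O → K))
        change incl _ = incl 0
        rw [map_zero]
        rw [show incl (eval₂ _ y' F) = _ from hom_eval₂ F _ incl.toRingHom y']
        rw [show incl.toRingHom.comp (aeval T' : k[X] →ₐ[k] P.1.O).toRingHom =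
          (aeval T : k[X] →ₐ[k] K).toRingHom from RingHom.ext fun q => (aeval_algHom_apply incl T' q).symm]
        exact hy
      have h1 := congrArg (ρ P) h0
      rw [map_zero, show ρ P (eval₂ _ y' F) = _ from hom_eval₂ F _ (ρ P).toRingHom y'] at h1
      show (F.map (evalRingHom (ρ P T'))).eval (ρ P y') = 0
      rw [eval_map]
      rw [show (ρ P).toRingHom.comp (aeval T' : k[X] →ₐ[k] P.1.O).toRingHom = evalRingHom (ρ P T')
        from RingHom.ext fun q => (aeval_algHom_apply (ρ P) T' q).symm] at h1
      exact h1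
    · simp only [f, dif_neg h] at hp
      exact absurd hp (by simp)
  -- fibres
  have hfib : ∀ o : Option (k × k), (Finset.univ.filter fun P => f P = o).card ≤ D := by
    intro o
    have key : ∀ x : K, Transcendental k x → Module.finrank k⟮x⟯ K = D →
        (∀ P ∈ Finset.univ.filter fun P => f P = o, P.1.1 x < 1) →
        (Finset.univ.filter fun P => f P = o).card ≤ D := by
      intro x hx hxD hlt
      rw [← hxD, ← Finset.card_map (Function.Embedding.subtype _)]
      refine card_zeros_le hK.1 hx _ fun Q hQ => ?_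
      obtain ⟨P, hP, rfl⟩ := Finset.mem_map.mp hQ
      exact hlt P hP
    cases o with
    | none =>
      refine key T⁻¹ (transcendental_inv hT) (by rw [adjoin_inv]; exact hD) fun P hP => ?_
      have hnone := (Finset.mem_filter.mp hP).2
      have hTO : T ∉ P.1.O := fun hTO => by
        simp only [f, dif_pos (And.intro hTO (hint P hTO))] at hnone
        exact absurd hnone (by simp)
      rw [FFLib.mem_O_iff, not_le] at hTO
      rw [map_inv₀]
      exact inv_lt_one_of_one_lt₀ hTO
    | some p =>
      have htr : Transcendental k (T - algebraMap k K p.1) := fun halg => hT (by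
        simpa using halg.add (isAlgebraic_algebraMap p.1))
      refine key _ htr (by rw [adjoin_sub_const]; exact hD) fun P hP => ?_
      have hsome := (Finset.mem_filter.mp hP).2
      by_cases h : T ∈ P.1.O ∧ y ∈ P.1.O
      · simp only [f, dif_pos h, Option.some.injEq] at hsome
        have : ρ P (⟨T, h.1⟩ - algebraMap k P.1.O p.1) = 0 := by
          rw [map_sub, AlgHom.commutes, ← hsome]
          simp
        exact (hρ P _).mp this
      · simp only [f, dif_neg h] at hsome
        exact absurd hsome (by simp)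
  let Z : Finset (Option (k × k)) :=
    insert none ((Set.toFinite (zeroSet F)).toFinset.map Function.Embedding.some)
  have hmaps : ∀ P ∈ (Finset.univ : Finset {P : Place k K // P.deg = 1}), f P ∈ Z := by
    intro P _
    cases hfP : f P with
    | none => exact Finset.mem_insert_self _ _
    | some p =>
      exact Finset.mem_insert_of_mem (Finset.mem_map.mpr ⟨p, by simpa using hz P p hfP, rfl⟩)
  refine (Finset.card_le_mul_card_image_of_maps_to hmaps D fun o _ => hfib o).trans ?_
  refine Nat.mul_le_mul_left D ?_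
  refine (Finset.card_insert_le _ _).trans (le_of_eq ?_)
  rw [Finset.card_map, Set.ncard_eq_toFinset_card _ (Set.toFinite _)]

/-- Rational places of a function field over a finite field. -/
theorem placeCount_one_ge [Finite k] (hK : IsFunctionField k K) :
    (Nat.card k : ℝ) + 1 - 2 * (genus k K : ℝ) * Real.sqrt (Nat.card k) ≤ placeCount k K 1 := by
  obtain ⟨α, -, hn, -, hc⟩ := CurveZeta.exists_roots hK
  have h := hc 1 le_rfl
  set s := Real.sqrt (Nat.card k : ℝ)
  have hb : (∑ i, α i ^ 1 : ℂ).re ≤ 2 * (genus k K : ℝ) * s := by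
    refine (Complex.re_le_norm _).trans ((norm_sum_le _ _).trans ?_)
    have : ∀ i, ‖α i ^ 1‖ = s := fun i => by
      rw [pow_one, ← Real.sqrt_sq (norm_nonneg (α i)), hn i]
    simp only [this, Finset.sum_const, Finset.card_univ, Fintype.card_fin, nsmul_eq_mul]
    push_cast; exact le_rfl
  have := congrArg Complex.re h
  rw [Complex.natCast_re, Complex.sub_re, Complex.add_re, Complex.one_re, pow_one, Complex.natCast_re] at this
  linarith

end Groth.Agent.LangWeilWeak
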