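import Mathlib.FieldTheory.AlgebraicClosure
import Mathlib.FieldTheory.SeparableClosure
import Mathlib.FieldTheory.PurelyInseparable.Tower
import Mathlib.FieldTheory.PurelyInseparable.PerfectClosure
import Mathlib.FieldTheory.PrimitiveElement
import Mathlib.RingTheory.Polynomial.GaussLemma
import Mathlib.RingTheory.Polynomial.IsIntegral
import Mathlib.RingTheory.Algebraic.Basic
import Mathlib.Algebra.Polynomial.Eval.Irreducible

/-!
# Absolute irreducibility

If `L` is algebraically closed in `K = L(T, y)` and `y` is separable over `L(T)`, then the equation of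
`y` over `L[T]` stays irreducible over an algebraic closure of `L`.
-/

set_option autoImplicit false

noncomputable section

namespace Groth.Agent.LangWeilWeak

open Polynomial
open scoped IntermediateField

variable {L Ω : Type*} [Field L] [Field Ω] [Algebra L Ω]

/-- A minimal polynomial over a larger field keeps its degree when `L` is algebraically closed in it. -/
theorem natDegree_minpoly_le_of_closed (K : IntermediateField L Ω)
    (hcl : ∀ z ∈ K, IsAlgebraic L z → z ∈ Set.range (algebraMap L Ω)) {θ : Ω} (hθ : IsIntegral L θ) :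
    (minpoly L θ).natDegree ≤ (minpoly K θ).natDegree := by
  set q := minpoly K θ
  have hq : q.Monic := minpoly.monic (hθ.tower_top)
  have hdvd : q ∣ (minpoly L θ).map (algebraMap L K) := minpoly.dvd_map_of_isScalarTower L K θ
  have hlift : q ∈ lifts (algebraMap L K) := (lifts_iff_coeff_lifts _).mpr fun i => by
    have h1 : IsIntegral L (q.coeff i) :=
      isIntegral_coeff_of_dvd _ q (minpoly.monic hθ) hq hdvd i
    have h2 : IsIntegral L ((q.coeff i : K) : Ω) := h1.map K.val
    obtain ⟨l, hl⟩ := hcl _ (q.coeff i).2 h2.isAlgebraic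
    exact ⟨l, Subtype.ext hl⟩
  obtain ⟨g, hg, hgd, hgm⟩ := lifts_and_natDegree_eq_and_monic hlift hq
  rw [← hgd]
  refine natDegree_le_of_dvd (minpoly.dvd L θ ?_) hgm.ne_zero
  rw [← aeval_map_algebraMap K θ g, hg]
  exact minpoly.aeval K θ

variable [IsAlgClosed Ω]

/-- The degree of `y` does not drop in a finite separable constant extension. -/
theorem natDegree_le_minpoly_adjoin (K : IntermediateField L Ω)
    (hcl : ∀ z ∈ K, IsAlgebraic L z → z ∈ Set.range (algebraMap L Ω)) (F₀ : IntermediateField L Ω)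
    {y : Ω} (hK : (F₀⟮y⟯).restrictScalars L = K) (hy : IsIntegral F₀ y) {θ : Ω} (hθ : IsIntegral L θ) :
    (minpoly F₀ y).natDegree ≤ (minpoly F₀⟮θ⟯ y).natDegree := by
  have hθ0 : IsIntegral F₀ θ := hθ.tower_top
  have hθy : IsIntegral F₀⟮y⟯ θ := hθ0.tower_top
  have hyθ : IsIntegral F₀⟮θ⟯ y := hy.tower_top
  haveI := IntermediateField.adjoin.finiteDimensional hθ0
  haveI := IntermediateField.adjoin.finiteDimensional hy
  -- the same compositum, generated in both orders
  have hE : (F₀⟮θ⟯⟮y⟯).restrictScalars F₀ = (F₀⟮y⟯⟮θ⟯).restrictScalars F₀ := by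
    rw [IntermediateField.adjoin_simple_adjoin_simple, IntermediateField.adjoin_simple_adjoin_simple,
      Set.pair_comm]
  have h1 : Module.finrank F₀ ((F₀⟮θ⟯⟮y⟯).restrictScalars F₀) =
      Module.finrank F₀ F₀⟮θ⟯ * Module.finrank F₀⟮θ⟯ F₀⟮θ⟯⟮y⟯ :=
    (Module.finrank_mul_finrank F₀ F₀⟮θ⟯ F₀⟮θ⟯⟮y⟯).symm
  have h2 : Module.finrank F₀ ((F₀⟮y⟯⟮θ⟯).restrictScalars F₀) =
      Module.finrank F₀ F₀⟮y⟯ * Module.finrank F₀⟮y⟯ F₀⟮y⟯⟮θ⟯ :=
    (Module.finrank_mul_finrank F₀ F₀⟮y⟯ F₀⟮y⟯⟮θ⟯).symm
  rw [IntermediateField.adjoin.finrank hθ0, IntermediateField.adjoin.finrank hyθ] at h1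
  rw [IntermediateField.adjoin.finrank hy, IntermediateField.adjoin.finrank hθy] at h2
  rw [hE, h2] at h1
  -- `θ` has the same degree over `F₀` and over `F₀⟮y⟯`
  have hcl' : ∀ z ∈ (F₀⟮y⟯).restrictScalars L, IsAlgebraic L z → z ∈ Set.range (algebraMap L Ω) :=
    hK ▸ hcl
  have hn := natDegree_minpoly_le_of_closed ((F₀⟮y⟯).restrictScalars L) hcl' hθ
  have hn' : (minpoly L θ).natDegree ≤ (minpoly F₀⟮y⟯ θ).natDegree := hn
  have hle : (minpoly F₀ θ).natDegree ≤ (minpoly L θ).natDegree := by
    rw [← natDegree_map (algebraMap L F₀) (p := minpoly L θ)]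
    exact natDegree_le_of_dvd (minpoly.dvd_map_of_isScalarTower L F₀ θ)
      ((minpoly.monic hθ).map _).ne_zero
  have hpos : 0 < (minpoly F₀ θ).natDegree := minpoly.natDegree_pos hθ0
  refine Nat.le_of_mul_le_mul_left ?_ hpos
  calc (minpoly F₀ θ).natDegree * (minpoly F₀ y).natDegree
      ≤ (minpoly F₀⟮y⟯ θ).natDegree * (minpoly F₀ y).natDegree :=
        Nat.mul_le_mul_right _ (hle.trans hn')
    _ = _ := by rw [mul_comm, h1]

/-- The degree of `y` does not drop over the separable constants. -/
theorem natDegree_minpoly_separableClosure (K : IntermediateField L Ω)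
    (hcl : ∀ z ∈ K, IsAlgebraic L z → z ∈ Set.range (algebraMap L Ω)) (F₀ : IntermediateField L Ω)
    {y : Ω} (hK : (F₀⟮y⟯).restrictScalars L = K) (hy : IsIntegral F₀ y) :
    (minpoly F₀ y).natDegree ≤
      (minpoly (IntermediateField.adjoin F₀ (separableClosure L Ω : Set Ω)) y).natDegree := by
  classical
  set N := IntermediateField.adjoin F₀ (separableClosure L Ω : Set Ω) with hN
  set q := minpoly N y
  choose S hS1 hS2 using fun i => IntermediateField.exists_finset_of_mem_adjoin (F := F₀) (q.coeff i).2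
  let U : Finset Ω := q.support.biUnion S
  let E : IntermediateField L Ω := IntermediateField.adjoin L (U : Set Ω)
  have hUs : (U : Set Ω) ⊆ separableClosure L Ω := fun x hx => by
    obtain ⟨i, -, hi⟩ := Finset.mem_biUnion.mp hx
    exact hS1 i hi
  have hEle : E ≤ separableClosure L Ω := IntermediateField.adjoin_le_iff.mpr hUs
  haveI : Algebra.IsSeparable L E := (le_separableClosure_iff L Ω E).mp hEle
  haveI : FiniteDimensional L E := IntermediateField.finiteDimensional_adjoin fun x hx =>
    ((mem_separableClosure_iff.mp (hUs hx)).isIntegral)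
  obtain ⟨⟨θ, hθE⟩, hprim⟩ := Field.exists_primitive_element L E
  have hθi : IsIntegral L θ := (mem_separableClosure_iff.mp (hEle hθE)).isIntegral
  have hEθ : E ≤ L⟮θ⟯ := fun z hz => by
    have : (⟨z, hz⟩ : E) ∈ L⟮(⟨θ, hθE⟩ : E)⟯ := by rw [hprim]; trivial
    have h := (IntermediateField.mem_map (f := E.val) (S := L⟮(⟨θ, hθE⟩ : E)⟯)).mpr ⟨_, this, rfl⟩
    rw [IntermediateField.adjoin_map, Set.image_singleton] at h
    exact h
  have hsub : ∀ i, ((q.coeff i : N) : Ω) ∈ F₀⟮θ⟯ := by
    intro i
    by_cases hi : i ∈ q.support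
    · refine IntermediateField.adjoin_le_iff.mpr (fun x hx => ?_) (hS2 i)
      have hxE : x ∈ E := IntermediateField.subset_adjoin L _ (Finset.mem_biUnion.mpr ⟨i, hi, hx⟩)
      have hle : L⟮θ⟯ ≤ (F₀⟮θ⟯).restrictScalars L := by
        rw [IntermediateField.adjoin_simple_le_iff]
        exact IntermediateField.mem_adjoin_simple_self F₀ θ
      exact hle (hEθ hxE)
    · rw [notMem_support_iff.mp hi]; exact zero_mem _
  -- `q` has coefficients in `F₀⟮θ⟯`
  have hq : q.Monic := minpoly.monic hy.tower_top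
  set p : Ω[X] := q.map (algebraMap N Ω) with hp
  have hlift : p ∈ lifts (algebraMap F₀⟮θ⟯ Ω) := (lifts_iff_coeff_lifts _).mpr fun i =>
    ⟨⟨_, hsub i⟩, by rw [hp, coeff_map]; rfl⟩
  obtain ⟨g, hg, hgd, hgm⟩ := lifts_and_natDegree_eq_and_monic hlift (hq.map _)
  have hgy : aeval y g = 0 := by
    rw [← aeval_map_algebraMap Ω y g, hg, hp, aeval_map_algebraMap, minpoly.aeval]
  calc (minpoly F₀ y).natDegree ≤ (minpoly F₀⟮θ⟯ y).natDegree :=
        natDegree_le_minpoly_adjoin K hcl F₀ hK hy hθi
    _ ≤ g.natDegree := natDegree_le_of_dvd (minpoly.dvd _ _ hgy) hgm.ne_zero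
    _ = q.natDegree := by rw [hgd, hp, hq.natDegree_map]

/-- **Absolute irreducibility** of the equation of `y`. -/
theorem irreducible_map_of_closed (K : IntermediateField L Ω)
    (hcl : ∀ z ∈ K, IsAlgebraic L z → z ∈ Set.range (algebraMap L Ω))
    {T y : Ω} (hT : Transcendental L T) (hK : K = IntermediateField.adjoin L {T, y})
    (hsep : IsSeparable L⟮T⟯ y)
    {F : L[X][X]} (hF : F.Monic) (hFy : eval₂ (aeval T : L[X] →ₐ[L] Ω).toRingHom y F = 0)
    (hdeg : F.natDegree = (minpoly L⟮T⟯ y).natDegree)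
    (Lb : Type*) [Field Lb] [Algebra L Lb] [Algebra.IsAlgebraic L Lb] :
    Irreducible (F.map (mapRingHom (algebraMap L Lb))) := by
  classical
  set F₀ : IntermediateField L Ω := L⟮T⟯ with hF₀
  have hK' : (F₀⟮y⟯).restrictScalars L = K := by
    rw [hF₀, IntermediateField.adjoin_simple_adjoin_simple, hK]
  have hy : IsIntegral F₀ y := hsep.isIntegral
  set N : IntermediateField F₀ Ω := IntermediateField.adjoin F₀ (separableClosure L Ω : Set Ω)
  have hdegN := natDegree_minpoly_separableClosure K hcl F₀ hK' hy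
  have hsepN : IsSeparable N y := hsep.tower_top N
  set N' : IntermediateField N Ω := IntermediateField.adjoin N (algebraicClosure L Ω : Set Ω) with hN'
  -- `N'` is purely inseparable over `N`
  haveI : IsPurelyInseparable N N' := by
    haveI hN0 : ExpChar N (ringExpChar L) := expChar_of_injective_algebraMap (algebraMap L N).injective _
    rw [hN', IntermediateField.isPurelyInseparable_adjoin_iff_pow_mem N Ω (ringExpChar L)]
    intro a ha
    let C : IntermediateField L Ω := algebraicClosure L Ω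
    haveI : ExpChar (separableClosure L C) (ringExpChar L) :=
      expChar_of_injective_algebraMap (algebraMap L (separableClosure L C)).injective _
    obtain ⟨n, b, hb⟩ := (isPurelyInseparable_iff_pow_mem (separableClosure L C) (ringExpChar L)).mp
      inferInstance (⟨a, ha⟩ : C)
    refine ⟨n, ⟨⟨((b : C) : Ω), IntermediateField.subset_adjoin F₀ _ ?_⟩, ?_⟩⟩
    · show ((b : C) : Ω) ∈ separableClosure L Ω
      rw [mem_separableClosure_iff]
      exact IsSeparable.map C.val C.val.injective (mem_separableClosure_iff.mp b.2)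
    · exact congrArg (fun z : C => (z : Ω)) hb
  have hirrN' : Irreducible ((minpoly N y).map (algebraMap N N')) :=
    Polynomial.Separable.map_irreducible_of_isPurelyInseparable N' hsepN
      (minpoly.irreducible hy.tower_top)
  -- transport from `Lb`
  let σ : Lb →ₐ[L] Ω := IsAlgClosed.lift
  let ι : Lb →+* N' := σ.toRingHom.codRestrict N' fun l => IntermediateField.subset_adjoin N _
    (mem_algebraicClosure_iff.mpr (((Algebra.IsAlgebraic.isAlgebraic l).isIntegral.map σ).isAlgebraic))
  have hTN : T ∈ N' := by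
    have h0 : T ∈ F₀ := IntermediateField.mem_adjoin_simple_self L T
    exact N'.algebraMap_mem ⟨T, N.algebraMap_mem ⟨T, h0⟩⟩
  let ψ : Lb[X] →+* N' := eval₂RingHom ι ⟨T, hTN⟩
  have hFm : (F.map (mapRingHom (algebraMap L Lb))).Monic := hF.map _
  refine hFm.irreducible_of_irreducible_map ψ _ ?_
  set P := (F.map (mapRingHom (algebraMap L Lb))).map ψ with hP
  suffices h : P = (minpoly N y).map (algebraMap N N') by rw [h]; exact hirrN'
  have hψ : ((algebraMap N' Ω).comp ψ).comp (mapRingHom (algebraMap L Lb)) =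
      (aeval T : L[X] →ₐ[L] Ω).toRingHom := by
    refine Polynomial.ringHom_ext (fun l => ?_) ?_
    · simp [ψ, ι]
    · simp [ψ]
  have hPy : aeval y P = 0 := by
    rw [aeval_def, hP, eval₂_map, eval₂_map, hψ]
    exact hFy
  have hPm : P.Monic := hFm.map _
  have hPd : P.natDegree = F.natDegree := by rw [hP, hFm.natDegree_map, hF.natDegree_map]
  have hmin : (minpoly N y).map (algebraMap N N') = minpoly N' y := by
    refine minpoly.eq_of_irreducible_of_monic hirrN' ?_ ((minpoly.monic hy.tower_top).map _)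
    rw [aeval_map_algebraMap, minpoly.aeval]
  refine (eq_of_monic_of_dvd_of_natDegree_le ((minpoly.monic hy.tower_top).map _) hPm ?_ ?_)
  · rw [hmin]; exact minpoly.dvd _ _ hPy
  · rw [hPd, natDegree_map, hdeg]; exact hdegN

end Groth.Agent.LangWeilWeak
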