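import Groth.Agent.LangWeilWeak.FunctionField
import Mathlib.FieldTheory.RatFunc.AsPolynomial
import Mathlib.RingTheory.Polynomial.GaussLemma
import Mathlib.RingTheory.AdjoinRoot

/-!
# Zeros of an absolutely irreducible equation `F(T, Y) = 0`, monic in `Y`, over a finite field
-/

set_option autoImplicit false

noncomputable section

namespace Groth.Agent.LangWeilWeak

open FunFld Polynomial
open scoped IntermediateField

universe u

variable {k : Type u} [Field k]

/-- The point count for an absolutely irreducible plane equation. -/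
theorem le_ncard_zeroSet [Finite k] {Ω : Type*} [Field Ω] [IsAlgClosed Ω] [Algebra k Ω]
    {F : k[X][X]} (hF : F.Monic) {c : ℕ} (hc : ∀ i, (F.coeff i).natDegree ≤ c)
    (hirr : Irreducible (F.map (mapRingHom (algebraMap k Ω)))) :
    (Nat.card k : ℝ) + 1 - 2 * ((c * F.natDegree ^ 2 + 1 : ℕ) : ℝ) * Real.sqrt (Nat.card k) ≤
      ((F.natDegree * ((zeroSet F).ncard + 1) : ℕ) : ℝ) := by
  classical
  -- the function field
  set G : (RatFunc k)[X] := F.map (algebraMap k[X] (RatFunc k)) with hGdef
  have hirr0 : Irreducible F := hF.irreducible_of_irreducible_map _ _ hirr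
  have hG : Irreducible G := (hF.irreducible_iff_irreducible_map_fraction_map).mp hirr0
  haveI : Fact (Irreducible G) := ⟨hG⟩
  have hGm : G.Monic := hF.map _
  have hGd : G.natDegree = F.natDegree := hF.natDegree_map _
  set K := AdjoinRoot G
  set y : K := AdjoinRoot.root G with hydef
  let T : K := algebraMap (RatFunc k) K RatFunc.X
  set pb := AdjoinRoot.powerBasis hG.ne_zero with hpb
  have hdim : pb.dim = F.natDegree := by rw [hpb, AdjoinRoot.powerBasis_dim, hGd]
  have hbasis : ∀ i, pb.basis i = y ^ (i : ℕ) := fun i => by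
    rw [pb.coe_basis]; rfl
  -- polynomials in `T`
  have haeval : ∀ p : k[X], aeval T p = algebraMap (RatFunc k) K (algebraMap k[X] (RatFunc k) p) := by
    intro p
    rw [aeval_algebraMap_apply, ← RatFunc.algebraMap_X, aeval_algebraMap_apply,
      aeval_X_left_apply]
  have hyF : eval₂ (aeval T : k[X] →ₐ[k] K).toRingHom y F = 0 := by
    have h : eval₂ (AdjoinRoot.of G) y G = 0 := AdjoinRoot.eval₂_root G
    have h' : eval₂ (AdjoinRoot.of G) y (F.map (algebraMap k[X] (RatFunc k))) = 0 := h
    rw [eval₂_map] at h'
    rw [← h']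
    congr 1
    exact RingHom.ext fun p => haeval p
  have hT : Transcendental k T := by
    rw [transcendental_iff]
    intro p hp
    rw [haeval] at hp
    exact RatFunc.algebraMap_injective k ((map_eq_zero_iff _ (algebraMap (RatFunc k) K).injective).mp hp
      |>.trans (map_zero _).symm)
  have hmemT : ∀ x : RatFunc k, algebraMap (RatFunc k) K x ∈ k⟮T⟯ := by
    intro x
    rw [← RatFunc.num_div_denom x, map_div₀, ← haeval, ← haeval]
    exact div_mem (IntermediateField.algebra_adjoin_le_adjoin k _ (aeval_mem_adjoin_singleton k T))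
      (IntermediateField.algebra_adjoin_le_adjoin k _ (aeval_mem_adjoin_singleton k T))
  have hTmem : ∀ z ∈ k⟮T⟯, ∃ x : RatFunc k, algebraMap (RatFunc k) K x = z := by
    intro z hz
    have hle : k⟮T⟯ ≤ (IsScalarTower.toAlgHom k (RatFunc k) K).fieldRange := by
      rw [IntermediateField.adjoin_simple_le_iff]
      exact ⟨RatFunc.X, rfl⟩
    obtain ⟨x, hx⟩ := hle hz
    exact ⟨x, hx⟩
  have hrepr : ∀ z : K, ∃ a : Fin F.natDegree → RatFunc k,
      z = ∑ i, algebraMap (RatFunc k) K (a i) * y ^ (i : ℕ) := by
    intro z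
    refine ⟨fun i => pb.basis.repr z (Fin.cast hdim.symm i), ?_⟩
    conv_lhs => rw [← pb.basis.sum_repr z]
    refine Fintype.sum_equiv (finCongr hdim) _ _ fun i => ?_
    rw [hbasis, Algebra.smul_def]
    rfl
  have hliT : LinearIndependent k⟮T⟯ fun i : Fin F.natDegree => y ^ (i : ℕ) := by
    rw [Fintype.linearIndependent_iff]
    intro g hg
    choose x hx using fun i => hTmem (g i).1 (g i).2
    have h0 : ∑ i : Fin pb.dim, x (finCongr hdim i) • pb.basis i = 0 := by
      rw [← hg]
      refine Fintype.sum_equiv (finCongr hdim) _ _ fun i => ?_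
      rw [hbasis, Algebra.smul_def, hx, IntermediateField.smul_def, smul_eq_mul]
      simp
    intro i
    have := Fintype.linearIndependent_iff.mp pb.basis.linearIndependent _ h0 ((finCongr hdim).symm i)
    apply Subtype.ext
    rw [← hx i]
    simp only [Equiv.apply_symm_apply] at this
    simp [this]
  have hspan : ⊤ ≤ Submodule.span k⟮T⟯ (Set.range fun i : Fin F.natDegree => y ^ (i : ℕ)) := by
    intro z _
    obtain ⟨a, rfl⟩ := hrepr z
    refine sum_mem fun i _ => ?_
    exact Submodule.smul_mem _ (⟨_, hmemT (a i)⟩ : k⟮T⟯) (Submodule.subset_span ⟨i, rfl⟩)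
  let bT := Module.Basis.mk hliT hspan
  have hD : Module.finrank k⟮T⟯ K = F.natDegree := by
    rw [Module.finrank_eq_card_basis bT, Fintype.card_fin]
  haveI : FiniteDimensional k⟮T⟯ K := Module.Finite.of_basis bT
  -- the constants
  have hconst : ∀ α : K, IsAlgebraic k α → α ∈ Set.range (algebraMap k K) := by
    intro α hα
    haveI : FiniteDimensional k k⟮α⟯ := IntermediateField.adjoin.finiteDimensional hα.isIntegral
    haveI : Algebra.IsIntegral k k⟮α⟯ := Algebra.IsIntegral.of_finite k _
    set E := k⟮α⟯
    have hTE : Transcendental E T := hT.extendScalars_of_isIntegral (S := E)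
    let φ : E[X] →+* K := (aeval T : E[X] →ₐ[E] K).toRingHom
    have hφ : Function.Injective φ := by
      rw [injective_iff_map_eq_zero]
      exact fun p hp => transcendental_iff.mp hTE p hp
    let Φ : RatFunc E →+* K := IsFractionRing.lift (A := E[X]) hφ
    have hΦ : ∀ p : E[X], Φ (algebraMap _ _ p) = φ p := fun p => IsFractionRing.lift_algebraMap hφ p
    letI : Algebra (RatFunc E) K := Φ.toAlgebra
    let j : E →ₐ[k] Ω := IsAlgClosed.lift
    set FE : E[X][X] := F.map (mapRingHom (algebraMap k E)) with hFE
    have hFEm : FE.Monic := hF.map _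
    have hFEi : Irreducible FE := by
      refine hFEm.irreducible_of_irreducible_map (mapRingHom j.toRingHom) _ ?_
      rw [hFE, Polynomial.map_map, mapRingHom_comp, show j.toRingHom.comp (algebraMap k E) = algebraMap k Ω from j.comp_algebraMap]
      exact hirr
    set GE : (RatFunc E)[X] := FE.map (algebraMap E[X] (RatFunc E)) with hGE
    have hGEi : Irreducible GE := (hFEm.irreducible_iff_irreducible_map_fraction_map).mp hFEi
    have hφk : ∀ p : k[X], φ (p.map (algebraMap k E)) = aeval T p := fun p =>
      aeval_map_algebraMap E T p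
    have hroot : aeval y GE = 0 := by
      rw [aeval_def, hGE, eval₂_map, hFE, eval₂_map]
      convert hyF using 2
      exact RingHom.ext fun p => (hΦ _).trans (hφk p)
    have hmin : GE = minpoly (RatFunc E) y :=
      minpoly.eq_of_irreducible_of_monic hGEi hroot (hFEm.map _)
    have hdE : (minpoly (RatFunc E) y).natDegree = F.natDegree := by
      rw [← hmin, hGE, hFEm.natDegree_map, hFE, hF.natDegree_map]
    have hliE := linearIndependent_pow (K := RatFunc E) y
    -- coefficients
    have hlift : ∀ x : RatFunc k, ∃ d : RatFunc E, Φ d = algebraMap (RatFunc k) K x := by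
      intro x
      refine ⟨algebraMap E[X] _ (x.num.map (algebraMap k E)) / algebraMap E[X] _ (x.denom.map (algebraMap k E)), ?_⟩
      rw [map_div₀, hΦ, hΦ, hφk, hφk, haeval, haeval, ← map_div₀, RatFunc.num_div_denom]
    obtain ⟨a, ha⟩ := hrepr α
    choose d hd using fun i => hlift (a i)
    let αE : RatFunc E := algebraMap E[X] _ (C (⟨α, IntermediateField.mem_adjoin_simple_self k α⟩ : E))
    have hαE : Φ αE = α := by
      rw [hΦ]; exact (aeval_C T _)
    have hD0 : 0 < F.natDegree := by
      rw [← hGd]; exact hG.natDegree_pos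
    let i0 : Fin F.natDegree := ⟨0, hD0⟩
    let g : Fin F.natDegree → RatFunc E := fun i => d i - if i = i0 then αE else 0
    have hg : ∑ i : Fin (minpoly (RatFunc E) y).natDegree, g (finCongr hdE i) • y ^ (i : ℕ) = 0 := by
      rw [Fintype.sum_equiv (finCongr hdE) _ (fun i => g i • y ^ (i : ℕ)) (fun i => by simp)]
      simp only [g, sub_smul, Finset.sum_sub_distrib, ite_smul, zero_smul, Finset.sum_ite_eq',
        Finset.mem_univ, if_true]
      rw [sub_eq_zero, Algebra.smul_def αE]
      rw [show y ^ ((i0 : Fin F.natDegree) : ℕ) = 1 from pow_zero y, mul_one]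
      rw [show algebraMap (RatFunc E) K αE = α from hαE]
      conv_rhs => rw [ha]
      refine Finset.sum_congr rfl fun i _ => ?_
      rw [Algebra.smul_def, show algebraMap (RatFunc E) K (d i) = _ from hd i]
    have hz := Fintype.linearIndependent_iff.mp hliE _ hg
    have hzero : ∀ i, g i = 0 := fun i => by
      simpa using hz ((finCongr hdE).symm i)
    have hα0 : α = algebraMap (RatFunc k) K (a i0) := by
      have h := hzero i0
      simp only [g, if_true, sub_eq_zero] at h
      rw [← hd i0, h, hαE]
    -- an algebraic rational function is constant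
    have hint : IsIntegral k (a i0) := by
      rw [← isIntegral_algHom_iff (IsScalarTower.toAlgHom k (RatFunc k) K)
        (algebraMap (RatFunc k) K).injective]
      exact hα0 ▸ hα.isIntegral
    obtain ⟨p, hp⟩ := (IsIntegrallyClosed.isIntegral_iff (R := k[X]) (K := RatFunc k)).mp
      (hint.tower_top (A := k[X]))
    have hpalg : IsIntegral k p :=
      (isIntegral_algHom_iff (IsScalarTower.toAlgHom k k[X] (RatFunc k))
        (RatFunc.algebraMap_injective k)).mp (hp.symm ▸ hint)
    have hpC : p.natDegree = 0 := by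
      by_contra h0
      exact Polynomial.transcendental p h0 (mem_nonZeroDivisors_of_ne_zero (leadingCoeff_ne_zero.mpr fun e => h0 (by simp [e]))) hpalg.isAlgebraic
    refine ⟨p.coeff 0, ?_⟩
    rw [hα0, ← hp, eq_C_of_natDegree_eq_zero hpC, coeff_C_zero,
      IsScalarTower.algebraMap_apply k (RatFunc k) K, IsScalarTower.algebraMap_apply k k[X] (RatFunc k)]
    rfl
  have hK : IsFunctionField k K := ⟨⟨T, hT, inferInstance⟩, hconst⟩
  have h1 := placeCount_one_ge hK
  have h2 : (FFLib.placeCount k K 1 : ℝ) ≤ ((F.natDegree * ((zeroSet F).ncard + 1) : ℕ) : ℝ) := by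
    exact_mod_cast card_places_le hK hT hD hF hyF
  have h3 : (genus k K : ℝ) ≤ ((c * F.natDegree ^ 2 + 1 : ℕ) : ℝ) := by
    exact_mod_cast genus_le_of_equation hK hT hD hliT hF hc hyF
  have h4 : 0 ≤ Real.sqrt (Nat.card k) := Real.sqrt_nonneg _
  nlinarith

end Groth.Agent.LangWeilWeak
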