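import Groth.Agent.LangWeilWeak.PlaneEquation
import Groth.Agent.S1352
import Mathlib.Algebra.Polynomial.Bivariate
import Mathlib.RingTheory.Localization.Away.Basic
import Mathlib.RingTheory.FiniteType

/-!
# The inductive step: points of a family of plane curves
-/

set_option autoImplicit false
set_option linter.style.haveILetI false

noncomputable section

namespace Groth.Agent.LangWeilWeak

open Polynomial

universe u

/-! ### The plane -/

/-- `A[X][Y] ≃ A[X₀, X₁]`. -/
def planeEquiv (A : Type*) [CommRing A] : A[X][X] ≃ₐ[A] MvPolynomial (Fin 2) A :=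
  AlgEquiv.ofAlgHom (aevalAeval (MvPolynomial.X 0) (MvPolynomial.X 1))
    (MvPolynomial.aeval ![C X, X])
    (MvPolynomial.algHom_ext fun i => by fin_cases i <;> simp)
    (Polynomial.algHom_ext'
      (Polynomial.algHom_ext (by simp))
      (by simp))

theorem planeEquiv_map {A A' : Type*} [CommRing A] [CommRing A'] (φ : A →+* A') (F : A[X][X]) :
    planeEquiv A' (F.map (mapRingHom φ)) = MvPolynomial.map φ (planeEquiv A F) := by
  have h : (planeEquiv A').toRingHom.comp (mapRingHom (mapRingHom φ)) =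
      (MvPolynomial.map φ).comp (planeEquiv A).toRingHom := by
    refine Polynomial.ringHom_ext' (Polynomial.ringHom_ext' (RingHom.ext fun a => ?_) ?_) ?_
    · simp [planeEquiv]
    · simp [planeEquiv]
    · simp [planeEquiv]
  exact congrArg (fun g => g F) (congrArg DFunLike.coe h)

theorem irreducible_planeEquiv_iff {A : Type*} [CommRing A] (F : A[X][X]) :
    Irreducible (planeEquiv A F) ↔ Irreducible F :=
  MulEquiv.irreducible_iff (planeEquiv A).toRingEquiv.toMulEquiv

/-- Irreducible specialisations of an absolutely irreducible family of plane curves. -/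
theorem exists_irreducible_specializations {B : Type u} [CommRing B] [IsDomain B] (F : B[X][X])
    (hF : Irreducible (F.map (mapRingHom (algebraMap B (AlgebraicClosure (FractionRing B)))))) :
    ∃ f : B, f ≠ 0 ∧ ∀ (κ : Type u) [Field κ] (φ : B →+* κ), φ f ≠ 0 →
      Irreducible (F.map (mapRingHom φ)) := by
  have hP : Irreducible (MvPolynomial.map (algebraMap B (AlgebraicClosure (FractionRing B)))
      (planeEquiv B F)) := by
    rw [← planeEquiv_map, irreducible_planeEquiv_iff]; exact hF
  obtain ⟨f, hf0, hf⟩ := Groth.Agent.S1352.result (planeEquiv B F) hP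
  refine ⟨f, hf0, fun κ _ φ hφ => ?_⟩
  have h := hf κ (IsLocalization.Away.lift f (g := φ) (Ne.isUnit hφ))
  rw [IsLocalization.Away.lift_comp, ← planeEquiv_map, irreducible_planeEquiv_iff] at h
  exact h

/-! ### Counting -/

variable {k : Type u} [Field k]

/-- Weak Lang–Weil lower bound for the points of a `k`-algebra `A`, exponent `r`. -/
def GoodCount (k : Type u) [Field k] (A : Type u) [CommRing A] [Algebra k A] (r : ℕ) : Prop :=
  ∃ e₀ : ℕ, 0 < e₀ ∧ ∃ c : ℝ, 0 < c ∧ ∃ N : ℕ, ∀ j, N ≤ j →
    ∀ (Fq : Type u) [Field Fq] [Algebra k Fq] [Finite Fq], Module.finrank k Fq = e₀ * j →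
      c * (Nat.card Fq : ℝ) ^ r ≤ (Nat.card (A →ₐ[k] Fq) : ℝ)

/-- Homomorphisms from a finitely generated algebra to a finite one form a finite set. -/
theorem finite_algHom (A : Type*) [CommRing A] [Algebra k A] [Algebra.FiniteType k A] (Fq : Type*)
    [CommRing Fq] [Algebra k Fq] [Finite Fq] : Finite (A →ₐ[k] Fq) := by
  obtain ⟨n, f, hf⟩ := Algebra.FiniteType.iff_quotient_mvPolynomial''.mp ‹Algebra.FiniteType k A›
  refine Finite.of_injective (fun (g : A →ₐ[k] Fq) (i : Fin n) => g (f (MvPolynomial.X i))) ?_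
  intro g g' h
  have h' : g.comp f = g'.comp f := MvPolynomial.algHom_ext fun i => congrFun h i
  exact AlgHom.ext fun a => by obtain ⟨a, rfl⟩ := hf a; exact DFunLike.congr_fun h' a

/-- Finitely many zeros lie over the zeros of `H`. -/
theorem ncard_zeroSet_inter_le [Finite k] {F : k[X][X]} (hF : F.Monic) {H : k[X]} (hH : H ≠ 0) :
    {p ∈ zeroSet F | H.eval p.1 = 0}.ncard ≤ H.natDegree * F.natDegree := by
  classical
  let U : Finset (k × k) := H.roots.toFinset.biUnion fun t =>
    (F.map (evalRingHom t)).roots.toFinset.map ⟨fun s => (t, s), fun a b h => congrArg Prod.snd h⟩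
  have hsub : {p ∈ zeroSet F | H.eval p.1 = 0} ⊆ (U : Set (k × k)) := by
    rintro ⟨t, s⟩ ⟨hz, ht⟩
    simp only [U, Finset.coe_biUnion, Set.mem_iUnion]
    refine ⟨t, by simpa [hH] using ht, ?_⟩
    simp only [Finset.coe_map, Set.mem_image]
    refine ⟨s, ?_, rfl⟩
    rw [Finset.mem_coe, Multiset.mem_toFinset, mem_roots (hF.map _).ne_zero]
    exact hz
  refine (Set.ncard_le_ncard hsub (Finset.finite_toSet U)).trans ?_
  rw [Set.ncard_coe_finset]
  refine Finset.card_biUnion_le_card_mul _ _ F.natDegree (fun t _ => ?_) |>.trans ?_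
  · rw [Finset.card_map]
    refine (Multiset.toFinset_card_le _).trans ((card_roots' _).trans ?_)
    exact natDegree_map_le
  · exact Nat.mul_le_mul_right _ ((Multiset.toFinset_card_le _).trans (card_roots' _))

/-- **The inductive step.** -/
theorem goodCount_step [Finite k] {B : Type u} [CommRing B] [Algebra k B] [Algebra.FiniteType k B]
    {F : B[X][X]} (hF : F.Monic) {H : B[X]}
    (hirr : ∀ (Ω : Type u) [Field Ω] (φ : B →+* Ω), IsAlgClosed Ω → Irreducible (F.map (mapRingHom φ)))
    (hH : ∀ (κ : Type u) [Field κ] (φ : B →+* κ), H.map φ ≠ 0)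
    {r : ℕ} (hB : GoodCount k B r) :
    GoodCount k (Localization.Away (AdjoinRoot.of F H)) (r + 1) := by
  classical
  obtain ⟨e₀, he₀, c, hc, N, hN⟩ := hB
  obtain ⟨d, hd⟩ : ∃ d : ℕ, ∀ i, (F.coeff i).natDegree ≤ d := by
    refine ⟨(F.support.sup fun i => (F.coeff i).natDegree), fun i => ?_⟩
    by_cases hi : i ∈ F.support
    · exact Finset.le_sup (f := fun i => (F.coeff i).natDegree) hi
    · simp [notMem_support_iff.mp hi]
  set G : ℕ := d * F.natDegree ^ 2 + 1 with hG
  set M : ℕ := 4 * G + 2 * F.natDegree + 2 * H.natDegree * F.natDegree ^ 2 + 2 with hM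
  refine ⟨e₀, he₀, c / (2 * (F.natDegree + 1)), by positivity, max N (M ^ 2), fun j hj Fq _ _ _ hfin => ?_⟩
  set S := Localization.Away (AdjoinRoot.of F H)
  haveI : Algebra.FiniteType k S := by
    haveI : Algebra.FiniteType k B[X] := Algebra.FiniteType.trans (S := B) inferInstance inferInstance
    haveI : Algebra.FiniteType B[X] (AdjoinRoot F) :=
      Algebra.FiniteType.of_surjective (AdjoinRoot.mkₐ F) AdjoinRoot.mk_surjective
    haveI : Algebra.FiniteType k (AdjoinRoot F) :=
      Algebra.FiniteType.trans (S := B[X]) inferInstance inferInstance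
    haveI : Algebra.FiniteType (AdjoinRoot F) S :=
      IsLocalization.finiteType_of_monoid_fg (Submonoid.powers (AdjoinRoot.of F H)) S
    exact Algebra.FiniteType.trans (S := AdjoinRoot F) inferInstance inferInstance
  haveI := finite_algHom (k := k) B Fq
  haveI := finite_algHom (k := k) S Fq
  haveI := Fintype.ofFinite (B →ₐ[k] Fq)
  let good : (B →ₐ[k] Fq) → Set (Fq × Fq) := fun φ =>
    {p ∈ zeroSet (F.map (mapRingHom φ.toRingHom)) | (H.map φ.toRingHom).eval p.1 ≠ 0}
  -- each point gives a homomorphism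
  let Φ : (Σ φ : B →ₐ[k] Fq, good φ) → (S →ₐ[k] Fq) := fun x =>
    let f : B[X] →+* Fq := eval₂RingHom x.1.toRingHom x.2.1.1
    let g : AdjoinRoot F →+* Fq := AdjoinRoot.lift f x.2.1.2 (by
      have h := x.2.2.1
      simp only [zeroSet, Set.mem_setOf_eq, eval_map, eval₂_map] at h
      rw [show (evalRingHom x.2.1.1).comp (mapRingHom x.1.toRingHom) = f from
        Polynomial.ringHom_ext (fun a => by simp [f]) (by simp [f])] at h
      exact h)
    let hu : IsUnit (g (AdjoinRoot.of F H)) := by
      have h := x.2.2.2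
      rw [eval_map] at h
      exact (show g (AdjoinRoot.of F H) = f H from AdjoinRoot.lift_of _) ▸ Ne.isUnit h
    { IsLocalization.Away.lift (AdjoinRoot.of F H) hu with
      commutes' := fun a => by
        show IsLocalization.Away.lift (AdjoinRoot.of F H) hu (algebraMap k S a) = _
        rw [IsScalarTower.algebraMap_apply k (AdjoinRoot F) S, IsLocalization.Away.lift_eq]
        show g (algebraMap k (AdjoinRoot F) a) = _
        rw [IsScalarTower.algebraMap_apply k B[X] (AdjoinRoot F), AdjoinRoot.algebraMap_eq,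
          AdjoinRoot.lift_of, IsScalarTower.algebraMap_apply k B B[X], Polynomial.algebraMap_eq]
        simp [f] }
  have hΦ : Function.Injective Φ := by
    intro x x' h
    have hB' : ∀ b : B, x.1 b = x'.1 b := fun b => by
      have := DFunLike.congr_fun h (algebraMap (AdjoinRoot F) S (AdjoinRoot.of F (C b)))
      simpa [Φ, IsLocalization.Away.lift_eq] using this
    have ht : x.2.1.1 = x'.2.1.1 := by
      have := DFunLike.congr_fun h (algebraMap (AdjoinRoot F) S (AdjoinRoot.of F X))
      simpa [Φ, IsLocalization.Away.lift_eq] using this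
    have hs : x.2.1.2 = x'.2.1.2 := by
      have := DFunLike.congr_fun h (algebraMap (AdjoinRoot F) S (AdjoinRoot.root F))
      simpa [Φ, IsLocalization.Away.lift_eq] using this
    obtain ⟨φ, p⟩ := x
    obtain ⟨φ', p'⟩ := x'
    obtain rfl : φ = φ' := AlgHom.ext hB'
    exact congrArg (Sigma.mk φ) (Subtype.ext (Prod.ext ht hs))
  -- the size of the field
  set Q : ℝ := (Nat.card Fq : ℝ) with hQ
  have hQj : (j : ℝ) ≤ Q := by
    have h1 : Nat.card Fq = Nat.card k ^ (e₀ * j) := by rw [← hfin]; exact Module.natCard_eq_pow_finrank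
    have h2 : j ≤ Nat.card Fq := by
      rw [h1]
      exact (Nat.lt_two_pow_self.le.trans (Nat.pow_le_pow_right two_pos (Nat.le_mul_of_pos_left j he₀))).trans
        (Nat.pow_le_pow_left (Finite.one_lt_card (α := k)) _)
    rw [hQ]; exact_mod_cast h2
  have hQ0 : (0 : ℝ) ≤ Q := Nat.cast_nonneg _
  set sq := Real.sqrt Q
  have hsq : (M : ℝ) ≤ sq := by
    refine Real.le_sqrt_of_sq_le ?_
    have : ((M ^ 2 : ℕ) : ℝ) ≤ j := by exact_mod_cast le_of_max_le_right hj
    push_cast at this
    linarith
  have hgood : ∀ φ : B →ₐ[k] Fq, Q / (2 * (F.natDegree + 1)) ≤ ((good φ).ncard : ℝ) := by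
    intro φ
    let Fφ := F.map (mapRingHom φ.toRingHom)
    have hFm : Fφ.Monic := hF.map _
    have hdeg : Fφ.natDegree ≤ F.natDegree := natDegree_map_le
    have hi : Irreducible (Fφ.map (mapRingHom (algebraMap Fq (AlgebraicClosure Fq)))) := by
      rw [Polynomial.map_map, mapRingHom_comp]
      exact hirr _ _ inferInstance
    have h1 := le_ncard_zeroSet hFm (c := d) (fun i => by
      rw [coeff_map]; exact natDegree_map_le.trans (hd i)) hi
    have h2 := ncard_zeroSet_inter_le hFm (H := H.map φ.toRingHom) (hH _ _)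
    have h3 : (zeroSet Fφ).ncard ≤
        (good φ).ncard + {p ∈ zeroSet Fφ | (H.map φ.toRingHom).eval p.1 = 0}.ncard := by
      refine (Set.ncard_le_ncard (fun p hp => ?_) (Set.toFinite _)).trans (Set.ncard_union_le _ _)
      by_cases hz : (H.map φ.toRingHom).eval p.1 = 0
      · exact Or.inr ⟨hp, hz⟩
      · exact Or.inl ⟨hp, hz⟩
    have h4 : Fφ.natDegree * ((zeroSet Fφ).ncard + 1) ≤
        F.natDegree * ((good φ).ncard + H.natDegree * F.natDegree + 1) := by
      refine Nat.mul_le_mul hdeg ?_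
      have : (H.map φ.toRingHom).natDegree * Fφ.natDegree ≤ H.natDegree * F.natDegree :=
        Nat.mul_le_mul natDegree_map_le hdeg
      omega
    have h5 : ((d * Fφ.natDegree ^ 2 + 1 : ℕ) : ℝ) ≤ (G : ℝ) := by
      rw [hG]; exact_mod_cast (by gcongr : d * Fφ.natDegree ^ 2 + 1 ≤ d * F.natDegree ^ 2 + 1)
    have h4' : ((Fφ.natDegree * ((zeroSet Fφ).ncard + 1) : ℕ) : ℝ) ≤
        ((F.natDegree * ((good φ).ncard + H.natDegree * F.natDegree + 1) : ℕ) : ℝ) := by
      exact_mod_cast h4
    have h6 := h1.trans h4'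
    have h7 : Q + 1 - 2 * (G : ℝ) * sq ≤
        (F.natDegree : ℝ) * ((good φ).ncard + H.natDegree * F.natDegree + 1) := by
      push_cast at h5 h6 ⊢
      nlinarith [Real.sqrt_nonneg Q]
    have hss : sq * sq = Q := Real.mul_self_sqrt hQ0
    have hM' : (4 * G + 2 * F.natDegree + 2 * H.natDegree * F.natDegree ^ 2 + 2 : ℝ) ≤ sq := by
      rw [hM] at hsq; push_cast at hsq; linarith
    have hsq1 : (1 : ℝ) ≤ sq := le_trans (by
      have : (0 : ℝ) ≤ 4 * G + 2 * F.natDegree + 2 * H.natDegree * F.natDegree ^ 2 := by positivity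
      linarith) hM'
    have hhalf : 2 * (G : ℝ) * sq + (H.natDegree * F.natDegree ^ 2 + F.natDegree : ℝ) ≤ Q / 2 := by
      have h8 := mul_le_mul_of_nonneg_right hM' (zero_le_one.trans hsq1)
      have h9 : (H.natDegree * F.natDegree ^ 2 + F.natDegree : ℝ) ≤
          (H.natDegree * F.natDegree ^ 2 + F.natDegree : ℝ) * sq :=
        le_mul_of_one_le_right (by positivity) hsq1
      nlinarith
    rw [div_le_iff₀ (by positivity)]
    have hg0 : (0 : ℝ) ≤ ((good φ).ncard : ℝ) := Nat.cast_nonneg _
    nlinarith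
  have hsum : (Nat.card (B →ₐ[k] Fq) : ℝ) * (Q / (2 * (F.natDegree + 1))) ≤ (Nat.card (S →ₐ[k] Fq) : ℝ) := by
    have h1 := Nat.card_le_card_of_injective Φ hΦ
    rw [Nat.card_sigma] at h1
    have h2 : ∑ φ : B →ₐ[k] Fq, Nat.card (good φ) = ∑ φ, (good φ).ncard :=
      Finset.sum_congr rfl fun φ _ => Nat.card_coe_set_eq _
    rw [h2] at h1
    calc (Nat.card (B →ₐ[k] Fq) : ℝ) * (Q / (2 * (F.natDegree + 1)))
        = ∑ _φ : B →ₐ[k] Fq, Q / (2 * (F.natDegree + 1) : ℝ) := by
          rw [Finset.sum_const, Finset.card_univ, nsmul_eq_mul, Nat.card_eq_fintype_card]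
      _ ≤ ∑ φ, ((good φ).ncard : ℝ) := Finset.sum_le_sum fun φ _ => hgood φ
      _ ≤ _ := by exact_mod_cast h1
  refine le_trans ?_ hsum
  refine le_trans (le_of_eq ?_)
    (mul_le_mul_of_nonneg_right (hN j (le_of_max_le_left hj) Fq hfin) (by positivity))
  rw [← hQ, pow_succ]
  ring

end Groth.Agent.LangWeilWeak
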