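import Groth.Agent.LangWeilWeak.Step

/-!
# The inductive step without a ground field
-/

set_option autoImplicit false
set_option linter.style.haveILetI false

noncomputable section

namespace Groth.Agent.LangWeilWeak

open Polynomial

universe u

/-- Homomorphisms from a finitely generated ring to a finite ring form a finite set. -/
theorem finite_ringHom_int (A : Type*) [CommRing A] [Algebra.FiniteType ℤ A] (Fq : Type*) [CommRing Fq]
    [Finite Fq] : Finite (A →+* Fq) := by
  obtain ⟨n, f, hf⟩ := Algebra.FiniteType.iff_quotient_mvPolynomial''.mp ‹Algebra.FiniteType ℤ A›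
  refine Finite.of_injective (fun (g : A →+* Fq) (i : Fin n) => g (f (MvPolynomial.X i))) ?_
  intro g g' h
  have h' : g.comp f.toRingHom = g'.comp f.toRingHom :=
    MvPolynomial.ringHom_ext' (Subsingleton.elim _ _) fun i => congrFun h i
  exact RingHom.ext fun a => by obtain ⟨a, rfl⟩ := hf a; exact RingHom.congr_fun h' a

/-- **The inductive step, field by field.** -/
theorem card_hom_step {B : Type u} [CommRing B] [Algebra.FiniteType ℤ B]
    {F : B[X][X]} (hF : F.Monic) {H : B[X]}
    (hirr : ∀ (Ω : Type u) [Field Ω] (φ : B →+* Ω), IsAlgClosed Ω → Irreducible (F.map (mapRingHom φ)))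
    (hH : ∀ (κ : Type u) [Field κ] (φ : B →+* κ), H.map φ ≠ 0) :
    ∃ (c : ℝ) (M : ℕ), 0 < c ∧ ∀ (Fq : Type u) [Field Fq] [Finite Fq], M ≤ Nat.card Fq →
      c * (Nat.card Fq : ℝ) * (Nat.card (B →+* Fq) : ℝ) ≤
        (Nat.card (Localization.Away (AdjoinRoot.of F H) →+* Fq) : ℝ) := by
  classical
  obtain ⟨d, hd⟩ : ∃ d : ℕ, ∀ i, (F.coeff i).natDegree ≤ d := by
    refine ⟨(F.support.sup fun i => (F.coeff i).natDegree), fun i => ?_⟩
    by_cases hi : i ∈ F.support
    · exact Finset.le_sup (f := fun i => (F.coeff i).natDegree) hi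
    · simp [notMem_support_iff.mp hi]
  set G : ℕ := d * F.natDegree ^ 2 + 1 with hG
  set M : ℕ := 4 * G + 2 * F.natDegree + 2 * H.natDegree * F.natDegree ^ 2 + 2 with hM
  refine ⟨1 / (2 * (F.natDegree + 1)), M ^ 2, by positivity, fun Fq _ _ hFq => ?_⟩
  set S := Localization.Away (AdjoinRoot.of F H)
  haveI := finite_ringHom_int B Fq
  haveI : Finite (S →+* Fq) := by
    refine Finite.of_injective (fun ψ : S →+* Fq =>
      ((((ψ.comp (algebraMap (AdjoinRoot F) S)).comp (AdjoinRoot.of F)).comp (C : B →+* B[X])),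
        ψ (algebraMap (AdjoinRoot F) S (AdjoinRoot.of F X)), ψ (algebraMap (AdjoinRoot F) S (AdjoinRoot.root F)))) ?_
    intro ψ ψ' h
    simp only [Prod.mk.injEq] at h
    refine IsLocalization.ringHom_ext (Submonoid.powers (AdjoinRoot.of F H)) ?_
    refine Ideal.Quotient.ringHom_ext (Polynomial.ringHom_ext' (Polynomial.ringHom_ext' h.1 h.2.1) h.2.2)
  haveI := Fintype.ofFinite (B →+* Fq)
  let good : (B →+* Fq) → Set (Fq × Fq) := fun φ =>
    {p ∈ zeroSet (F.map (mapRingHom φ)) | (H.map φ).eval p.1 ≠ 0}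
  -- each point gives a homomorphism
  let Φ : (Σ φ : B →+* Fq, good φ) → (S →+* Fq) := fun x =>
    let f : B[X] →+* Fq := eval₂RingHom x.1 x.2.1.1
    let g : AdjoinRoot F →+* Fq := AdjoinRoot.lift f x.2.1.2 (by
      have h := x.2.2.1
      simp only [zeroSet, Set.mem_setOf_eq, eval_map, eval₂_map] at h
      rw [show (evalRingHom x.2.1.1).comp (mapRingHom x.1) = f from
        Polynomial.ringHom_ext (fun a => by simp [f]) (by simp [f])] at h
      exact h)
    let hu : IsUnit (g (AdjoinRoot.of F H)) := by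
      have h := x.2.2.2
      rw [eval_map] at h
      exact (show g (AdjoinRoot.of F H) = f H from AdjoinRoot.lift_of _) ▸ Ne.isUnit h
    IsLocalization.Away.lift (AdjoinRoot.of F H) hu
  have hΦ : Function.Injective Φ := by
    intro x x' h
    have hB' : ∀ b : B, x.1 b = x'.1 b := fun b => by
      have := DFunLike.congr_fun h (algebraMap (AdjoinRoot F) S (AdjoinRoot.of F (C b)))
      simpa [Φ, IsLocalization.Away.lift_eq] using this
    have ht : x.2.1.1 = x'.2.1.1 := by
      have := DFunLike.congr_fun h (algebraMap (AdjoinRoot F) S (AdjoinRoot.of F X))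
      simpa [Φ, IsLocalization.Away.lift_eq] using this
    have hs : x.2.1.2 = x'.2.1.2 := by
      have := DFunLike.congr_fun h (algebraMap (AdjoinRoot F) S (AdjoinRoot.root F))
      simpa [Φ, IsLocalization.Away.lift_eq] using this
    obtain ⟨φ, p⟩ := x
    obtain ⟨φ', p'⟩ := x'
    obtain rfl : φ = φ' := RingHom.ext hB'
    exact congrArg (Sigma.mk φ) (Subtype.ext (Prod.ext ht hs))
  set Q : ℝ := (Nat.card Fq : ℝ) with hQ
  have hQ0 : (0 : ℝ) ≤ Q := Nat.cast_nonneg _
  set sq := Real.sqrt Q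
  have hsq : (M : ℝ) ≤ sq := by
    refine Real.le_sqrt_of_sq_le ?_
    rw [hQ]
    exact_mod_cast hFq
  have hgood : ∀ φ : B →+* Fq, Q / (2 * (F.natDegree + 1)) ≤ ((good φ).ncard : ℝ) := by
    intro φ
    let Fφ := F.map (mapRingHom φ)
    have hFm : Fφ.Monic := hF.map _
    have hdeg : Fφ.natDegree ≤ F.natDegree := natDegree_map_le
    have hi : Irreducible (Fφ.map (mapRingHom (algebraMap Fq (AlgebraicClosure Fq)))) := by
      rw [Polynomial.map_map, mapRingHom_comp]
      exact hirr _ _ inferInstance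
    have h1 := le_ncard_zeroSet hFm (c := d) (fun i => by
      rw [coeff_map]; exact natDegree_map_le.trans (hd i)) hi
    have h2 := ncard_zeroSet_inter_le hFm (H := H.map φ) (hH _ _)
    have h3 : (zeroSet Fφ).ncard ≤
        (good φ).ncard + {p ∈ zeroSet Fφ | (H.map φ).eval p.1 = 0}.ncard := by
      refine (Set.ncard_le_ncard (fun p hp => ?_) (Set.toFinite _)).trans (Set.ncard_union_le _ _)
      by_cases hz : (H.map φ).eval p.1 = 0
      · exact Or.inr ⟨hp, hz⟩
      · exact Or.inl ⟨hp, hz⟩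
    have h4 : Fφ.natDegree * ((zeroSet Fφ).ncard + 1) ≤
        F.natDegree * ((good φ).ncard + H.natDegree * F.natDegree + 1) := by
      refine Nat.mul_le_mul hdeg ?_
      have : (H.map φ).natDegree * Fφ.natDegree ≤ H.natDegree * F.natDegree :=
        Nat.mul_le_mul natDegree_map_le hdeg
      omega
    have h5 : ((d * Fφ.natDegree ^ 2 + 1 : ℕ) : ℝ) ≤ (G : ℝ) := by
      rw [hG]; exact_mod_cast (by gcongr : d * Fφ.natDegree ^ 2 + 1 ≤ d * F.natDegree ^ 2 + 1)
    have h4' : ((Fφ.natDegree * ((zeroSet Fφ).ncard + 1) : ℕ) : ℝ) ≤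
        ((F.natDegree * ((good φ).ncard + H.natDegree * F.natDegree + 1) : ℕ) : ℝ) := by
      exact_mod_cast h4
    have h6 := h1.trans h4'
    have h7 : Q + 1 - 2 * (G : ℝ) * sq ≤
        (F.natDegree : ℝ) * ((good φ).ncard + H.natDegree * F.natDegree + 1) := by
      push_cast at h5 h6 ⊢
      nlinarith [Real.sqrt_nonneg Q]
    have hss : sq * sq = Q := Real.mul_self_sqrt hQ0
    have hM' : (4 * G + 2 * F.natDegree + 2 * H.natDegree * F.natDegree ^ 2 + 2 : ℝ) ≤ sq := by
      rw [hM] at hsq; push_cast at hsq; linarith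
    have hsq1 : (1 : ℝ) ≤ sq := le_trans (by
      have : (0 : ℝ) ≤ 4 * G + 2 * F.natDegree + 2 * H.natDegree * F.natDegree ^ 2 := by positivity
      linarith) hM'
    have hhalf : 2 * (G : ℝ) * sq + (H.natDegree * F.natDegree ^ 2 + F.natDegree : ℝ) ≤ Q / 2 := by
      have h8 := mul_le_mul_of_nonneg_right hM' (zero_le_one.trans hsq1)
      have h9 : (H.natDegree * F.natDegree ^ 2 + F.natDegree : ℝ) ≤
          (H.natDegree * F.natDegree ^ 2 + F.natDegree : ℝ) * sq :=
        le_mul_of_one_le_right (by positivity) hsq1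
      nlinarith
    rw [div_le_iff₀ (by positivity)]
    have hg0 : (0 : ℝ) ≤ ((good φ).ncard : ℝ) := Nat.cast_nonneg _
    nlinarith
  have hsum : (Nat.card (B →+* Fq) : ℝ) * (Q / (2 * (F.natDegree + 1))) ≤ (Nat.card (S →+* Fq) : ℝ) := by
    have h1 := Nat.card_le_card_of_injective Φ hΦ
    rw [Nat.card_sigma] at h1
    have h2 : ∑ φ : B →+* Fq, Nat.card (good φ) = ∑ φ, (good φ).ncard :=
      Finset.sum_congr rfl fun φ _ => Nat.card_coe_set_eq _
    rw [h2] at h1
    calc (Nat.card (B →+* Fq) : ℝ) * (Q / (2 * (F.natDegree + 1)))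
        = ∑ _φ : B →+* Fq, Q / (2 * (F.natDegree + 1) : ℝ) := by
          rw [Finset.sum_const, Finset.card_univ, nsmul_eq_mul, Nat.card_eq_fintype_card]
      _ ≤ ∑ φ, ((good φ).ncard : ℝ) := Finset.sum_le_sum fun φ _ => hgood φ
      _ ≤ _ := by exact_mod_cast h1
  refine le_trans (le_of_eq ?_) hsum
  ring

end Groth.Agent.LangWeilWeak
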